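import Cfsg.Agent.Lib.TensorSympWreath.Closing
import Cfsg.Agent.Lib.TensorSympEven.Drop

/-!
A tensor power of a symplectic space in characteristic two: operators in one slot, and the coefficients of the slot
transvections.
-/

set_option autoImplicit false
set_option linter.unusedSectionVars false
set_option linter.unusedSimpArgs false

namespace CfsgLib.TensorSympChar2

open Matrix Module
open scoped Kronecker
open CfsgLib.Maximal.TensorPower
open CfsgLib.TensorWreathMax (Idx In exists_dot_eq_one')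
open CfsgLib.TensorSympWreath

attribute [-simp] Matrix.coe_units_inv

variable {F : Type*} [Field F] {m N : ℕ} {J : Matrix (Fin m) (Fin m) F}

theorem neg_self (h2 : (2 : F) = 0) {V : Type*} [AddCommGroup V] [Module F V] (x : V) : -x = x := by
  rw [neg_eq_iff_add_eq_zero, ← two_smul F, h2, zero_smul]

theorem add_self (h2 : (2 : F) = 0) {V : Type*} [AddCommGroup V] [Module F V] (x : V) : x + x = 0 := by
  rw [← two_smul F, h2, zero_smul]

theorem fm_symm (hJ : Alt J) (h2 : (2 : F) = 0) (u v : Fin m → F) : fm J v u = fm J u v := by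
  rw [hJ.flip u v, neg_self h2]

theorem Am_eq (h2 : (2 : F) = 0) (a b : Fin m → F) :
    Am J a b = vecMulVec a (b ᵥ* J) + vecMulVec b (a ᵥ* J) := by
  rw [Am, sub_eq_add_neg, neg_self h2, add_comm]

theorem Srt_eq (h2 : (2 : F) = 0) (a b : Fin m → F) : Srt J a b = Am J a b := by
  rw [Am_eq h2, Srt, add_comm]

/-- An independent isotropic pair. -/
def IPair (J : Matrix (Fin m) (Fin m) F) (a b : Fin m → F) : Prop :=
  a ≠ 0 ∧ (∀ s : F, b ≠ s • a) ∧ fm J a b = 0

theorem IPair.smul {a b : Fin m → F} (h : IPair J a b) {c : F} (hc : c ≠ 0) : IPair J (c • a) b :=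
  ⟨smul_ne_zero hc h.1, fun s hs => h.2.1 (s * c) (by rw [hs, smul_smul]),
    by rw [map_smul, LinearMap.smul_apply, h.2.2, smul_zero]⟩

/-- Prescribed values on two independent vectors. -/
theorem exists_fm_eq (hJ : Alt J) {u v : Fin m → F} (hu : u ≠ 0) (hv : ∀ s : F, v ≠ s • u) (s t : F) :
    ∃ c, fm J u c = s ∧ fm J v c = t := by
  have hi : ∀ {x y : Fin m → F}, (∀ r : F, y ≠ r • x) → ∃ c, fm J x c = 0 ∧ fm J y c = 1 := fun {x y} h => by
    obtain ⟨c, hc, hc'⟩ := CfsgLib.TensorWreathMax.exists_perp_eq_one (x := x ᵥ* J) (y := y ᵥ* J) fun r hr =>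
      h r (sub_eq_zero.1 (hJ.nondeg.1 _ fun z => by
        rw [map_sub, LinearMap.sub_apply, map_smul, LinearMap.smul_apply, fm_apply, fm_apply, hr, smul_dotProduct,
          sub_self]))
    exact ⟨c, by rw [fm_apply, dotProduct_comm, hc], by rw [fm_apply, dotProduct_comm, hc']⟩
  have hu' : ∀ r : F, u ≠ r • v := fun r hr => by
    rcases eq_or_ne r 0 with rfl | h
    · exact hu (by rw [hr, zero_smul])
    · exact hv r⁻¹ (by rw [hr, smul_smul, inv_mul_cancel₀ h, one_smul])
  obtain ⟨c₁, h1, h1'⟩ := hi hu'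
  obtain ⟨c₂, h3, h3'⟩ := hi hv
  exact ⟨s • c₁ + t • c₂, by simp [h1', h3], by simp [h1, h3']⟩

/-- A vector orthogonal to three given ones outside the span of two. -/
theorem exists_perp_not_mem (hm : 6 ≤ m) (u v w x y : Fin m → F) :
    ∃ z, fm J u z = 0 ∧ fm J v z = 0 ∧ fm J w z = 0 ∧ ∀ s t : F, z ≠ s • x + t • y := by
  let f := (fm J u).prod ((fm J v).prod (fm J w))
  classical
  have h1 := LinearMap.finrank_range_add_finrank_ker f
  have h3 := Submodule.finrank_le (LinearMap.range f)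
  simp only [Module.finrank_prod, Module.finrank_self, Module.finrank_fintype_fun_eq_card, Fintype.card_fin] at h1 h3
  have h4 : finrank F (Submodule.span F ({x, y} : Set (Fin m → F))) ≤ 2 := by
    have h := finrank_span_finset_le_card (R := F) ({x, y} : Finset (Fin m → F))
    rw [Finset.coe_pair] at h
    exact h.trans Finset.card_le_two
  obtain ⟨z, hz, hzn⟩ := SetLike.not_le_iff_exists.1 fun hle : LinearMap.ker f ≤ Submodule.span F {x, y} => by
    have := Submodule.finrank_mono hle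
    omega
  have h5 : f z = 0 := hz
  exact ⟨z, congrArg Prod.fst h5, congrArg (fun q => q.2.1) h5, congrArg (fun q => q.2.2) h5, fun s t h => hzn (Submodule.mem_span_pair.2 ⟨s, t, h.symm⟩)⟩

/-- An isotropic pair pairing to one with both of two independent vectors. -/
theorem exists_four (hJ : Alt J) (hm : 6 ≤ m) {p r : Fin m → F} (hp : p ≠ 0) (hr : ∀ s : F, r ≠ s • p) :
    ∃ e g, IPair J e g ∧ fm J p e = 1 ∧ fm J r e = 1 ∧ fm J p g = 1 ∧ fm J r g = 1 := by
  obtain ⟨e, hpe, hre⟩ := exists_fm_eq hJ hp hr 1 1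
  obtain ⟨w, h1, h2, h3, h4⟩ := exists_perp_not_mem (J := J) hm p r e e 0
  refine ⟨e, e + w, ⟨fun h => one_ne_zero (hpe.symm.trans (by rw [h, map_zero])), fun s hs => h4 (s - 1) 0 ?_, ?_⟩,
    hpe, hre, ?_, ?_⟩
  · rw [sub_smul, one_smul, ← hs, zero_smul, add_zero, add_sub_cancel_left]
  · rw [map_add, hJ.self, h3, add_zero]
  · rw [map_add, hpe, h1, add_zero]
  · rw [map_add, hre, h2, add_zero]

/-- A hyperbolic pair orthogonal to two orthogonal vectors. -/
theorem exists_step (hJ : Alt J) (h2 : (2 : F) = 0) (hm : 6 ≤ m) {a d : Fin m → F} (ha : a ≠ 0) (hd : d ≠ 0)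
    (had : fm J a d = 0) :
    ∃ b c, IPair J a b ∧ IPair J c d ∧ fm J a c = 0 ∧ fm J b d = 0 ∧ fm J b c = 1 ∧ ∀ s : F, c ≠ s • a := by
  obtain ⟨b, hab, hdb, -, hb⟩ := exists_perp_not_mem (J := J) hm a d d a d
  by_cases hda : ∃ s : F, d = s • a
  · obtain ⟨s, rfl⟩ := hda
    obtain ⟨c, hc1, hc2⟩ := exists_fm_eq hJ ha (v := b) (fun r hr => hb r 0 (by rw [hr, zero_smul, add_zero])) 0 1
    have hbd : fm J b (s • a) = 0 := by rw [← fm_symm hJ h2, hdb]
    refine ⟨b, c, ⟨ha, fun r hr => hb r 0 (by rw [hr, zero_smul, add_zero]), hab⟩,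
      ⟨fun h => one_ne_zero (hc2.symm.trans (by rw [h, map_zero])), fun r hr => ?_, ?_⟩, hc1, hbd, hc2,
      fun r hr => ?_⟩
    · rcases eq_or_ne r 0 with rfl | hr0
      · exact hd (by rw [hr, zero_smul])
      · rw [hr, map_smul, hc2, smul_eq_mul, mul_one] at hbd
        exact hr0 hbd
    · rw [map_smul, ← fm_symm hJ h2, hc1, smul_zero]
    · rw [hr, map_smul, ← fm_symm hJ h2, hab, smul_zero] at hc2
      exact zero_ne_one hc2
  push Not at hda
  -- prescribed values on three independent vectors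
  have hspan : ∀ s t : F, b ≠ s • a + t • d := hb
  obtain ⟨c, hc1, hc3, hc2⟩ : ∃ c, fm J a c = 0 ∧ fm J d c = 0 ∧ fm J b c = 1 := by
    by_contra hcon
    push Not at hcon
    have hall : ∀ z, fm J a z = 0 → fm J d z = 0 → fm J b z = 0 := fun z h1 h3 => by
      by_contra h5
      exact hcon ((fm J b z)⁻¹ • z) (by rw [map_smul, h1, smul_zero]) (by rw [map_smul, h3, smul_zero])
        (by rw [map_smul, smul_eq_mul, inv_mul_cancel₀ h5])
    obtain ⟨p, hp1, hp2⟩ := exists_fm_eq hJ ha hda 1 0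
    obtain ⟨r, hr1, hr2⟩ := exists_fm_eq hJ ha hda 0 1
    refine hspan (fm J b p) (fm J b r) (sub_eq_zero.1 (hJ.nondeg.1 _ fun z => ?_))
    have h := hall (z - fm J a z • p - fm J d z • r) (by simp [hp1, hr1]) (by simp [hp2, hr2])
    simp only [map_sub, map_smul, map_add, LinearMap.sub_apply, LinearMap.add_apply, LinearMap.smul_apply,
      smul_eq_mul] at h ⊢
    linear_combination h
  have hbd : fm J b d = 0 := by rw [← fm_symm hJ h2, hdb]
  refine ⟨b, c, ⟨ha, fun r hr => hb r 0 (by rw [hr, zero_smul, add_zero]), hab⟩,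
    ⟨fun h => one_ne_zero (hc2.symm.trans (by rw [h, map_zero])), fun r hr => ?_, ?_⟩, hc1, hbd, hc2,
    fun r hr => ?_⟩
  · rcases eq_or_ne r 0 with rfl | hr0
    · exact hd (by rw [hr, zero_smul])
    · rw [hr, map_smul, hc2, smul_eq_mul, mul_one] at hbd
      exact hr0 hbd
  · rw [← fm_symm hJ h2, hc3]
  · rw [hr, map_smul, ← fm_symm hJ h2, hab, smul_zero] at hc2
    exact zero_ne_one hc2

/-- The group contains the isometries of the slots, in characteristic two. -/
structure Ev (J : Matrix (Fin m) (Fin m) F) (M : Subgroup (GL (Idx m N) F)) : Prop where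
  alt : Alt J
  two : (2 : F) = 0
  setting : Setting J M

namespace Ev

variable {M : Subgroup (GL (Idx m N) F)} (hW : Ev J M) {i : Fin N}
include hW

theorem coef_zero : Coef J M i 0 := ⟨fun Z => by simp, fun v => by simpa using In.one⟩

theorem coef_add {Y Z : Matrix (Idx m N) (Idx m N) F} (hY : Coef J M i Y) (hZ : Coef J M i Z) :
    Coef J M i (Y + Z) := by
  refine ⟨fun W => by rw [add_mul, mul_add, hY.1, hZ.1], fun v => ?_⟩
  rw [mul_add]
  refine In.add ?_ (hY.2 v) (hZ.2 v)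
  rw [mul_assoc, ← mul_assoc Y, hY.1, mul_assoc, ← mul_assoc, slot_mul, hW.alt.Xm_mul_self, map_zero, zero_mul]

/-- Every scalar is a square. -/
theorem coef_smul [Finite F] {Y : Matrix (Idx m N) (Idx m N) F} (hY : Coef J M i Y) (c : F) : Coef J M i (c • Y) := by
  obtain ⟨r, rfl⟩ : ∃ r, r * r = c := (Finite.injective_iff_surjective.1 fun x y (hxy : x * x = y * y) => by
    have : (x - y) * (x - y) = 0 := by linear_combination hxy + (y * y - x * y) * hW.two
    exact sub_eq_zero.1 (mul_self_eq_zero.1 this)) c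
  exact ⟨fun W => by rw [smul_mul_assoc, mul_smul_comm, hY.1], fun v => by
    have h := hY.2 (r • v)
    rwa [Xm_smul, map_smul, smul_mul_assoc, ← mul_smul_comm] at h⟩

theorem coef_of_one {v : Fin m → F} (hv : v ≠ 0) {Y : Matrix (Idx m N) (Idx m N) F}
    (hc : ∀ Z, Y * slot i Z = slot i Z * Y) (h : In M (1 + slot i (Xm J v) * Y)) : Coef J M i Y := by
  refine ⟨hc, fun w => ?_⟩
  rcases eq_or_ne w 0 with rfl | hw
  · rw [show Xm J (0 : Fin m → F) = 0 by ext p q; simp [Xm, vecMulVec_apply]]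
    simpa using In.one
  obtain ⟨A, hAv, hAi, hAM⟩ := hW.alt.exists_move hv hw
  obtain ⟨g, hg, hgA⟩ := hAM hW.setting i
  have hgi : ((g⁻¹ : GL (Idx m N) F) : Matrix (Idx m N) (Idx m N) F) =
      slot i ((A⁻¹ : GL (Fin m) F) : Matrix (Fin m) (Fin m) F) :=
    Units.inv_eq_of_mul_eq_one_right (by rw [hgA, slot_mul, Units.mul_inv, slot_one])
  convert In.conj hg h using 2
  rw [hgA, hgi, mul_assoc (slot i (A : Matrix (Fin m) (Fin m) F)), mul_assoc (slot i (Xm J v)), hc, ← mul_assoc,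
    ← mul_assoc, slot_mul, slot_mul, hW.alt.conj_Xm' one_ne_zero (show _ = (1 : F) • J from hAi.trans (one_smul F J).symm),
    hAv, inv_one, one_smul]

/-- Conjugation by the isometries of another slot. -/
theorem coef_slot_conj {Y : Matrix (Idx m N) (Idx m N) F} (hY : Coef J M i Y) {l : Fin N} (hl : l ≠ i)
    {A A' : Matrix (Fin m) (Fin m) F} (hA : Iso J A) (hAA : A * A' = 1) :
    Coef J M i (slot l A * Y * slot l A') := by
  obtain ⟨g, hg, hgA⟩ := hW.setting.slot_iso hW.alt hA l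
  have hgi : ((g⁻¹ : GL (Idx m N) F) : Matrix (Idx m N) (Idx m N) F) = slot l A' :=
    Units.inv_eq_of_mul_eq_one_right (by rw [hgA, slot_mul, hAA, slot_one])
  refine ⟨fun Z => ?_, fun v => ?_⟩
  · rw [mul_assoc _ (slot l A'), slot_comm hl A' Z, ← mul_assoc, mul_assoc _ Y, hY.1, ← mul_assoc, slot_comm hl A Z]
    simp only [mul_assoc]
  · convert In.conj hg (hY.2 v) using 2
    rw [hgA, hgi, ← mul_assoc (slot l A) (slot i (Xm J v)), slot_comm hl]
    simp only [mul_assoc]

/-- Coefficients are closed under the bracket. -/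
theorem coef_bracket (hm : 6 ≤ m) {Y Z : Matrix (Idx m N) (Idx m N) F} (hY : Coef J M i Y) (hZ : Coef J M i Z) :
    Coef J M i (Y * Z + Z * Y) := by
  have hJ := hW.alt
  obtain ⟨p, hp⟩ : ∃ p : Fin m → F, p ≠ 0 := ⟨Pi.single ⟨0, by omega⟩ 1, by simp⟩
  obtain ⟨c, d, ⟨hp', -, hvc⟩, -, hvd, -, hcd, -⟩ := exists_step hJ hW.two hm hp hp (hJ.self p)
  have hX0 : ∀ {a b}, fm J a b = 0 → Xm J a * Xm J b = 0 := fun {a b} h => by
    rw [Xm, Xm, vecMulVec_mul_vecMulVec, ← fm_apply, h, zero_smul, vecMulVec_zero]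
  have hpr : ∀ (P Q : Matrix (Fin m) (Fin m) F) (U V : Matrix (Idx m N) (Idx m N) F),
      (∀ R, U * slot i R = slot i R * U) → slot i P * U * (slot i Q * V) = slot i (P * Q) * (U * V) :=
    fun P Q U V hU => by rw [mul_assoc, ← mul_assoc U, hU, mul_assoc, ← mul_assoc, slot_mul]
  have hsrt : ∀ {Y : Matrix (Idx m N) (Idx m N) F}, Coef J M i Y → ∀ {e}, fm J p e = 0 →
      In M (1 + slot i (Srt J p e) * Y) := by
    intro Y hY e he
    have hep : fm J e p = 0 := by rw [fm_symm hJ hW.two, he]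
    have e1 : Srt J p e = Xm J (p + e) + Xm J p + Xm J e := by
      simp only [Srt, Xm, add_vecMul, vecMulVec_add, add_vecMulVec]
      rw [show vecMulVec p (p ᵥ* J) + vecMulVec e (p ᵥ* J) + (vecMulVec p (e ᵥ* J) + vecMulVec e (e ᵥ* J)) +
        vecMulVec p (p ᵥ* J) + vecMulVec e (e ᵥ* J) = (vecMulVec e (p ᵥ* J) + vecMulVec p (e ᵥ* J)) +
          ((vecMulVec p (p ᵥ* J) + vecMulVec p (p ᵥ* J)) + (vecMulVec e (e ᵥ* J) + vecMulVec e (e ᵥ* J))) by abel,
        add_self hW.two, add_self hW.two, add_zero, add_zero]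
    rw [e1, map_add, map_add, add_mul, add_mul]
    refine In.add ?_ (In.add ?_ (hY.2 _) (hY.2 p)) (hY.2 e)
    · rw [add_mul, hpr _ _ _ _ hY.1, hpr _ _ _ _ hY.1, hX0 he,
        hX0 (show fm J (p + e) e = 0 by rw [map_add, LinearMap.add_apply, he, hJ.self, add_zero])]
      simp
    · rw [hpr _ _ _ _ hY.1, hX0 (show fm J (p + e) p = 0 by rw [map_add, LinearMap.add_apply, hep, hJ.self, add_zero])]
      simp
  have hSS : ∀ {x y}, fm J p x = 0 → fm J p y = 0 → Srt J p x * Srt J p y = fm J x y • Xm J p := by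
    intro x y hx hy
    refine Matrix.ext_of_mulVec_single fun l => ?_
    rw [← mulVec_mulVec]
    simp only [Srt_mulVec, map_add, map_smul, smul_eq_mul, hJ.self, hy, hx, show fm J x p = 0 by rw [hJ.flip p x, hx, neg_zero],
      smul_mulVec, Xm_mulVec]
    module
  have hXS : ∀ {x}, fm J p x = 0 → Xm J p * Srt J p x = 0 := fun {x} hx => Matrix.ext_of_mulVec_single fun l => by
    rw [← mulVec_mulVec, zero_mulVec]
    generalize (Pi.single l (1 : F) : Fin m → F) = y
    simp [Xm_mulVec, Srt_mulVec, hx, hJ.self]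
  set A := slot i (Srt J p c) * Y with hA
  set B := slot i (Srt J p d) * Z with hB
  have hN : A * B - B * A = slot i (Xm J p) * (Y * Z + Z * Y) := by
    rw [hA, hB, hpr _ _ _ _ hY.1, hpr _ _ _ _ hZ.1, hSS hvc hvd, hSS hvd hvc, hcd, hJ.flip c d, hcd,
      one_smul, neg_smul, one_smul, map_neg, neg_mul, sub_neg_eq_add, mul_add]
  have hcomm : ∀ R, (Y * Z + Z * Y) * slot i R = slot i R * (Y * Z + Z * Y) := fun R => by
    rw [add_mul, mul_assoc, hZ.1, ← mul_assoc, hY.1, mul_assoc Z, hY.1, ← mul_assoc Z, hZ.1, mul_add]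
    simp only [mul_assoc]
  refine hW.coef_of_one hp hcomm ?_
  rw [← hN]
  refine in_comm (hsrt hY hvc) (hsrt hZ hvd) ?_ ?_ <;>
  · rw [hN, hA, hB] at *
    rw [hpr _ _ _ _ hcomm, hXS (by assumption), map_zero, zero_mul]

end Ev

end CfsgLib.TensorSympChar2
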