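import Cfsg.Agent.Lib.TensorSympChar2.Basic

/-!
A class of operators closed under sums and under conjugation by slot isometries contains, with a non-scalar operator,
all products of isotropic pairs over some set of slots.
-/

set_option autoImplicit false
set_option linter.unusedSectionVars false
set_option linter.unusedSimpArgs false

namespace CfsgLib.TensorSympChar2

open Matrix
open scoped Kronecker
open CfsgLib.Maximal.TensorPower
open CfsgLib.TensorWreathMax (Idx split rx rx_slot_same exists_perp_eq_one)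
open CfsgLib.TensorSympWreath

attribute [-simp] Matrix.coe_units_inv

variable {F : Type*} [Field F] {m N : ℕ} {J : Matrix (Fin m) (Fin m) F}

/-- A class of operators closed under sums and slot conjugations. -/
structure Cls (J : Matrix (Fin m) (Fin m) F) (U : Finset (Fin N))
    (C : Matrix (Idx m N) (Idx m N) F → Prop) : Prop where
  add : ∀ {Y Z}, C Y → C Z → C (Y + Z)
  conj : ∀ {Y l A A'}, l ∈ U → Iso J A → A * A' = 1 → C Y → C (slot l A * Y * slot l A')

/-- All products of isotropic pairs over a set of slots. -/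
def PatAll (J : Matrix (Fin m) (Fin m) F) (C : Matrix (Idx m N) (Idx m N) F → Prop) (S : Finset (Fin N)) : Prop :=
  ∀ a b : Fin N → Fin m → F, (∀ l ∈ S, IPair J (a l) (b l)) → C (pat S fun l => Am J (a l) (b l))

theorem sandwich_pat {S : Finset (Fin N)} {l : Fin N} (hl : l ∈ S) (os : Fin N → Matrix (Fin m) (Fin m) F)
    (A B : Matrix (Fin m) (Fin m) F) :
    slot l A * pat S os * slot l B = pat S (Function.update os l (A * os l * B)) := by
  rw [pat, pat, slot_apply, slot_apply, pm_mul, pm_mul]
  congr 1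
  funext x
  rcases eq_or_ne x l with rfl | hx
  · simp [ops, hl]
  · by_cases hS : x ∈ S <;> simp [ops, hx, hS]

theorem pat_update_add {S : Finset (Fin N)} {l : Fin N} (hl : l ∈ S) (os : Fin N → Matrix (Fin m) (Fin m) F)
    (A B : Matrix (Fin m) (Fin m) F) :
    pat S (Function.update os l A) + pat S (Function.update os l B) = pat S (Function.update os l (A + B)) := by
  classical
  have h : ∀ X, pat S (Function.update os l X) = slot l X * pat (S.erase l) os := fun X => by
    conv_lhs => rw [← Finset.insert_erase hl, pat_insert (Finset.notMem_erase _ _), Function.update_self]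
    rw [pat_congr fun x hx => Function.update_of_ne (Finset.ne_of_mem_erase hx) _ _]
  rw [h, h, h, map_add, add_mul]

theorem pat_update_smul {S : Finset (Fin N)} {l : Fin N} (hl : l ∈ S) (os : Fin N → Matrix (Fin m) (Fin m) F) (c : F)
    (A : Matrix (Fin m) (Fin m) F) :
    pat S (Function.update os l (c • A)) = c • pat S (Function.update os l A) := by
  classical
  have h : ∀ X, pat S (Function.update os l X) = slot l X * pat (S.erase l) os := fun X => by
    conv_lhs => rw [← Finset.insert_erase hl, pat_insert (Finset.notMem_erase _ _), Function.update_self]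
    rw [pat_congr fun x hx => Function.update_of_ne (Finset.ne_of_mem_erase hx) _ _]
  rw [h, h, map_smul, smul_mul_assoc]

theorem Am_smul_left (c : F) (a b : Fin m → F) : Am J (c • a) b = c • Am J a b := by
  simp [Am, smul_vecMul, smul_sub, vecMulVec_smul, smul_vecMulVec]

theorem Am_ne_zero (hJ : Alt J) {a b : Fin m → F} (h : IPair J a b) : Am J a b ≠ 0 := fun h0 => by
  obtain ⟨θ, hθ, hθ'⟩ := exists_perp_eq_one (x := a) (y := b) h.2.1
  obtain ⟨f, hf⟩ := hJ.exists_pair h.1
  have h3 := congrArg (fun X => θ ⬝ᵥ X *ᵥ f) h0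
  simp only [Am, sub_mulVec, vecMulVec_mulVec, op_smul_eq_smul, ← fm_apply, hf, one_smul, dotProduct_sub,
    dotProduct_smul, hθ, hθ', smul_zero, sub_zero, zero_mulVec, dotProduct_zero] at h3
  exact one_ne_zero h3

/-- A single product of pairs gives all of them. -/
theorem Cls.patAll {U : Finset (Fin N)} {C : Matrix (Idx m N) (Idx m N) F → Prop} (hC : Cls J U C) (hJ : Alt J)
    {S : Finset (Fin N)} (hS : S ⊆ U) {a b : Fin N → Fin m → F} (hab : ∀ l ∈ S, IPair J (a l) (b l))
    (h : C (pat S fun l => Am J (a l) (b l))) : PatAll J C S := by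
  classical
  intro c d hcd
  have key : ∀ T : Finset (Fin N), T ⊆ S →
      C (pat S fun l => if l ∈ T then Am J (c l) (d l) else Am J (a l) (b l)) := by
    intro T
    induction T using Finset.induction_on with
    | empty => intro _; simpa using h
    | insert l T hl ih =>
      intro hT
      rw [Finset.insert_subset_iff] at hT
      obtain ⟨h1, h2, h3⟩ := hab l hT.1
      obtain ⟨h4, h5, h6⟩ := hcd l hT.1
      obtain ⟨A, hAa, hAb, hAi⟩ := hJ.exists_move_pair h1 h2 h3 h4 h5 h6
      have h7 := hC.conj (hS hT.1) hAi (Units.mul_inv A) (ih hT.2)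
      rw [sandwich_pat hT.1] at h7
      simp only [hl, if_false] at h7
      rw [hJ.conj_Am hAi, hAa, hAb] at h7
      convert h7 using 1
      refine pat_congr fun x _ => ?_
      rcases eq_or_ne x l with rfl | hx
      · simp
      · simp [hx]
  have := key S subset_rfl
  rwa [pat_congr (fun l hl => by simp [hl] : ∀ l ∈ S, (if l ∈ S then Am J (c l) (d l) else Am J (a l) (b l)) =
    Am J (c l) (d l))] at this

theorem blk_smul {μ : Type} [Fintype μ] [DecidableEq μ] (c : F) (R : Matrix (Fin m × μ) (Fin m × μ) F) (x y : μ) :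
    blk (c • R) x y = c • blk R x y := by
  ext p q; simp [blk]

/-- A block moving every vector in its line is scalar. -/
theorem scalar_of_perp (hJ : Alt J) (hm : 6 ≤ m) {B : Matrix (Fin m) (Fin m) F}
    (h : ∀ a b, IPair J a b → fm J a (B *ᵥ b) = 0) : ∃ c : F, B = c • 1 := by
  haveI : NeZero m := ⟨by omega⟩
  have hperp : ∀ b a, fm J a b = 0 → (∀ s : F, a ≠ s • b) → fm J a (B *ᵥ b) = 0 := fun b a hab hind => by
    rcases eq_or_ne b 0 with rfl | hb
    · simp
    refine h a b ⟨fun h0 => hind 0 (by rw [h0, zero_smul]), fun s hs => ?_, hab⟩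
    rcases eq_or_ne s 0 with rfl | hs0
    · exact hb (by rw [hs, zero_smul])
    · exact hind s⁻¹ (by rw [hs, smul_smul, inv_mul_cancel₀ hs0, one_smul])
  have hline : ∀ b, ∃ s : F, B *ᵥ b = s • b := by
    intro b
    by_contra hcon
    push Not at hcon
    have hb : b ≠ 0 := fun h0 => hcon 0 (by rw [h0, mulVec_zero, smul_zero])
    obtain ⟨a, ha, ha'⟩ := exists_fm_eq hJ hb hcon 0 1
    have hab : fm J a b = 0 := by rw [hJ.flip b a, ha, neg_zero]
    have ha'' : fm J a (B *ᵥ b) = -1 := by rw [hJ.flip (B *ᵥ b) a, ha']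
    by_cases hs : ∃ s : F, a = s • b
    · obtain ⟨s, rfl⟩ := hs
      obtain ⟨w, hw, -, -, hwb⟩ := exists_perp_not_mem (J := J) hm b b b b b
      have hwb' : ∀ r : F, w ≠ r • b := fun r hr => hwb r 0 (by rw [hr, zero_smul, add_zero])
      have hw' : fm J w b = 0 := by rw [hJ.flip b w, hw, neg_zero]
      have h1 := hperp b (w + s • b) (by rw [map_add, LinearMap.add_apply, hw', zero_add, map_smul,
        LinearMap.smul_apply, hJ.self, smul_zero]) fun r hr => hwb' (r - s) (by rw [sub_smul, ← hr, add_sub_cancel_right])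
      rw [map_add, LinearMap.add_apply, hperp b w hw' hwb', zero_add, ha''] at h1
      exact neg_ne_zero.2 one_ne_zero h1
    · push Not at hs
      have h1 := hperp b a hab hs
      rw [ha''] at h1
      exact neg_ne_zero.2 one_ne_zero h1
  obtain ⟨s₀, hs₀⟩ := hline (Pi.single 0 1)
  refine ⟨s₀, Matrix.ext_of_mulVec_single fun l => ?_⟩
  rw [smul_mulVec, one_mulVec]
  rcases eq_or_ne l 0 with rfl | hl
  · exact hs₀
  obtain ⟨s, hs⟩ := hline (Pi.single l 1)
  obtain ⟨r, hr⟩ := hline (Pi.single 0 1 + Pi.single l 1)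
  rw [mulVec_add, hs₀, hs, smul_add] at hr
  have e0 := congrFun hr 0
  have el := congrFun hr l
  simp [Pi.single_apply, hl, Ne.symm hl] at e0 el
  rw [hs, el, e0]

namespace Cls

variable {U : Finset (Fin N)} {C : Matrix (Idx m N) (Idx m N) F → Prop} (hC : Cls J U C)
include hC

/-- Two sandwiches by orthogonal directions. -/
theorem pair (hJ : Alt J) (h2 : (2 : F) = 0) {Y : Matrix (Idx m N) (Idx m N) F} (hY : C Y) {l : Fin N} (hl : l ∈ U)
    {a b : Fin m → F} (hab : fm J a b = 0) :
    C (slot l (Xm J a) * Y * slot l (Xm J b) + slot l (Xm J b) * Y * slot l (Xm J a)) := by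
  have hD : ∀ v {Z}, C Z → C (slot l (Xm J v) * Z + Z * slot l (Xm J v) + slot l (Xm J v) * Z * slot l (Xm J v)) := by
    intro v Z hZ
    have hA : Iso J (1 + Xm J v) := by simpa using iso_root hJ v (1 : F)
    have hAA : (1 + Xm J v) * (1 + Xm J v) = 1 := by
      rw [add_mul, one_mul, mul_add, mul_one, hJ.Xm_mul_self, add_zero, add_assoc, add_self h2, add_zero]
    convert hC.add (hC.conj hl hA hAA hZ) hZ using 1
    rw [map_add, slot_one]
    simp only [add_mul, mul_add, one_mul, mul_one]
    generalize slot l (Xm J v) * Z * slot l (Xm J v) = R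
    generalize slot l (Xm J v) * Z = P
    generalize Z * slot l (Xm J v) = Q
    rw [show Z + P + (Q + R) + Z = (P + Q + R) + (Z + Z) by abel, add_self h2, add_zero]
  have h := hD a (hD b hY)
  set X := slot l (Xm J a)
  set Y' := slot l (Xm J b)
  have e1 : X * Y' = 0 := by
    simp [X, Y', slot_mul, Xm, vecMulVec_mul_vecMulVec, ← fm_apply, hab]
  have e2 : Y' * X = 0 := by
    simp [X, Y', slot_mul, Xm, vecMulVec_mul_vecMulVec, ← fm_apply, show fm J b a = 0 by rw [fm_symm hJ h2, hab]]
  convert h using 1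
  simp only [mul_add, add_mul, mul_assoc, e2, ← mul_assoc X Y', e1, zero_mul, mul_zero, add_zero, zero_add]

end Cls

/-- A non-scalar operator gives all products of pairs over some slots. -/
theorem extract [NeZero m] {U : Finset (Fin N)} {C : Matrix (Idx m N) (Idx m N) F → Prop} (hC : Cls J U C)
    (hJ : Alt J) (h2 : (2 : F) = 0) (hm : 6 ≤ m) {Y₀ : Matrix (Idx m N) (Idx m N) F} (hY₀ : C Y₀)
    (hcomm : ∀ l ∉ U, ∀ Z, Y₀ * slot l Z = slot l Z * Y₀) (hns : ∀ c : F, Y₀ ≠ c • 1) :
    ∃ S, S ⊆ U ∧ S.Nonempty ∧ PatAll J C S := by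
  classical
  have key : ∀ V : Finset (Fin N), V ⊆ U → ∃ (S : Finset (Fin N)) (a b : Fin N → Fin m → F)
      (Y : Matrix (Idx m N) (Idx m N) F), S ⊆ V ∧ (∀ l ∈ S, IPair J (a l) (b l)) ∧ C Y ∧ Y ≠ 0 ∧
        (∀ l ∈ V ∪ (Finset.univ \ U), Fac l (ops S (fun l => Am J (a l) (b l)) l) Y) ∧ (S = ∅ → Y = Y₀) := by
    intro V
    induction V using Finset.induction_on with
    | empty =>
      refine fun _ => ⟨∅, 0, 0, Y₀, subset_rfl, by simp, hY₀, fun h => hns 0 (by rw [h, zero_smul]), fun l hl => ?_,
        fun _ => rfl⟩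
      simp only [Finset.empty_union, Finset.mem_sdiff, Finset.mem_univ, true_and] at hl
      exact ⟨Y₀, hcomm l hl, by simp [ops, slot_one]⟩
    | insert l V hlV ih =>
      intro hVU
      rw [Finset.insert_subset_iff] at hVU
      obtain ⟨hlU, hVU⟩ := hVU
      obtain ⟨S, a, b, Y, hSV, hk, hY, hY0, hfac, hS⟩ := ih hVU
      have hlS : l ∉ S := fun h => hlV (hSV h)
      obtain ⟨n, rfl⟩ : ∃ n, N = n + 1 := ⟨N - 1, by have := l.pos; omega⟩
      have hne : ∀ x ∈ V ∪ (Finset.univ \ U), l ≠ x := fun x hx h => by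
        subst h
        simp [hlV, hlU] at hx
      have hnew : ∀ (u v : Fin m → F) (Y' : Matrix (Idx m (n + 1)) (Idx m (n + 1)) F), IPair J u v → C Y' → Y' ≠ 0 →
          Fac l (Am J u v) Y' → (∀ x ∈ V ∪ (Finset.univ \ U), Fac x (ops S (fun l => Am J (a l) (b l)) x) Y') →
          ∃ (S : Finset (Fin (n + 1))) (a b : Fin (n + 1) → Fin m → F) (Y : Matrix (Idx m (n + 1)) (Idx m (n + 1)) F),
            S ⊆ insert l V ∧ (∀ l ∈ S, IPair J (a l) (b l)) ∧ C Y ∧ Y ≠ 0 ∧
              (∀ x ∈ insert l V ∪ (Finset.univ \ U), Fac x (ops S (fun l => Am J (a l) (b l)) x) Y) ∧ (S = ∅ → Y = Y₀) := by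
        intro u v Y' huv hY' hY'0 hl hV
        refine ⟨insert l S, Function.update a l u, Function.update b l v, Y', Finset.insert_subset_insert _ hSV,
          fun x hx => ?_, hY', hY'0, fun x hx => ?_, fun h => absurd h (Finset.insert_ne_empty _ _)⟩
        · rcases eq_or_ne x l with rfl | hxl
          · simpa using huv
          · simpa [hxl] using hk x (by simpa [hxl] using hx)
        · rcases eq_or_ne x l with rfl | hxl
          · simpa [ops] using hl
          · simpa [ops, hxl] using hV x (by simpa [hxl] using hx)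
      have hsame : ∀ A B : Matrix (Fin m) (Fin m) F, ∀ x ∈ V ∪ (Finset.univ \ U),
          Fac x (ops S (fun l => Am J (a l) (b l)) x) (slot l A * Y * slot l B) :=
        fun A B x hx => (hfac x hx).sandwich (hne x hx) A B
      have hblk : ∀ (Z : Matrix (Idx m (n + 1)) (Idx m (n + 1)) F) (u v : Fin m → F) x y,
          blk (rx l (slot l (Xm J u) * Z * slot l (Xm J v) + slot l (Xm J v) * Z * slot l (Xm J u))) x y =
            fm J u (blk (rx l Z) x y *ᵥ v) • vecMulVec u (v ᵥ* J) +
              fm J v (blk (rx l Z) x y *ᵥ u) • vecMulVec v (u ᵥ* J) := fun Z u v x y => by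
        rw [map_add, map_mul, map_mul, map_mul, map_mul, rx_slot_same, rx_slot_same, blk_add, blk_sandwich,
          blk_sandwich, Xm_mul_mul, Xm_mul_mul]
      by_cases h1 : ∃ u v, IPair J u v ∧ ∃ x y, fm J u (blk (rx l Y) x y *ᵥ v) + fm J v (blk (rx l Y) x y *ᵥ u) ≠ 0
      · obtain ⟨u, v, huv, x₀, y₀, hne'⟩ := h1
        obtain ⟨e, g, heg, hue, hve, hug, hvg⟩ := exists_four hJ hm huv.1 huv.2.1
        have hY1 := hC.pair hJ h2 (hC.pair hJ h2 hY hlU huv.2.2) hlU heg.2.2
        have hb : ∀ x y, blk (rx l (slot l (Xm J e) * (slot l (Xm J u) * Y * slot l (Xm J v) +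
            slot l (Xm J v) * Y * slot l (Xm J u)) * slot l (Xm J g) + slot l (Xm J g) * (slot l (Xm J u) * Y *
            slot l (Xm J v) + slot l (Xm J v) * Y * slot l (Xm J u)) * slot l (Xm J e))) x y =
              (fm J u (blk (rx l Y) x y *ᵥ v) + fm J v (blk (rx l Y) x y *ᵥ u)) • Am J e g := fun x y => by
          rw [hblk _ e g, hblk _ u v, Am_eq h2, smul_add]
          simp only [add_mulVec, smul_mulVec, vecMulVec_mulVec, op_smul_eq_smul, ← fm_apply, map_add, map_smul, hue,
            hve, hug, hvg, fm_symm hJ h2 u e, fm_symm hJ h2 v e, fm_symm hJ h2 u g, fm_symm hJ h2 v g, smul_eq_mul,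
            mul_one]
        refine hnew e g _ heg hY1 (fun h0 => ?_) (fac_of_blk fun x y => ⟨_, hb x y⟩)
          fun x hx => ?_
        · have h3 := hb x₀ y₀
          rw [h0, map_zero, show blk (0 : Matrix (Fin m × Idx m n) (Fin m × Idx m n) F) x₀ y₀ = 0 from rfl, eq_comm,
            smul_eq_zero] at h3
          exact h3.elim hne' (Am_ne_zero hJ heg)
        · have h3 := fun A B => ((hsame A B x hx) : Fac x _ _)
          obtain ⟨Z, hZ, hZe⟩ := (h3 (Xm J u) (Xm J v)).add (h3 (Xm J v) (Xm J u))
          exact (Fac.sandwich (hne x hx) ⟨Z, hZ, hZe⟩ _ _).add (Fac.sandwich (hne x hx) ⟨Z, hZ, hZe⟩ _ _)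
      push Not at h1
      have heq : ∀ {u v}, IPair J u v → ∀ x y,
          fm J v (blk (rx l Y) x y *ᵥ u) = fm J u (blk (rx l Y) x y *ᵥ v) := fun huv x y => by
        rw [eq_neg_of_add_eq_zero_right (h1 _ _ huv x y), neg_self h2]
      by_cases h3 : ∃ u v, IPair J u v ∧ ∃ x y, fm J u (blk (rx l Y) x y *ᵥ v) ≠ 0
      · obtain ⟨u, v, huv, x₀, y₀, hne'⟩ := h3
        have hb : ∀ x y, blk (rx l (slot l (Xm J u) * Y * slot l (Xm J v) + slot l (Xm J v) * Y * slot l (Xm J u))) x y =
            fm J u (blk (rx l Y) x y *ᵥ v) • Am J u v := fun x y => by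
          rw [hblk, heq huv, Am_eq h2, smul_add]
        refine hnew u v _ huv (hC.pair hJ h2 hY hlU huv.2.2) (fun h0 => ?_) (fac_of_blk fun x y => ⟨_, hb x y⟩)
          fun x hx => (hsame _ _ x hx).add (hsame _ _ x hx)
        have h4 := hb x₀ y₀
        rw [h0, map_zero, show blk (0 : Matrix (Fin m × Idx m n) (Fin m × Idx m n) F) x₀ y₀ = 0 from rfl, eq_comm,
          smul_eq_zero] at h4
        exact h4.elim hne' (Am_ne_zero hJ huv)
      push Not at h3
      refine ⟨S, a, b, Y, hSV.trans (Finset.subset_insert _ _), hk, hY, hY0, fun x hx => ?_, hS⟩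
      rw [Finset.insert_union, Finset.mem_insert] at hx
      rcases hx with rfl | hx
      · simp only [ops, hlS, if_false]
        exact fac_of_blk fun p q => scalar_of_perp hJ hm fun u v huv => h3 u v huv p q
      · exact hfac x hx
  obtain ⟨S, a, b, Y, hS, hk, hY, hY0, hfac, hS0⟩ := key U subset_rfl
  obtain ⟨c, hc⟩ := eq_smul_pm_of_fac (os := ops S fun l => Am J (a l) (b l)) (fun l => by
      by_cases hl : l ∈ S
      · simpa [ops, hl] using Am_ne_zero hJ (hk l hl)
      · simpa [ops, hl] using one_ne_zero) fun l => hfac l (by simp [em])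
  have hc0 : c ≠ 0 := fun h => hY0 (by rw [hc, h, zero_smul])
  have hne : S.Nonempty := Finset.nonempty_iff_ne_empty.2 fun h => hns c (by
    rw [← hS0 h, hc, ← pat_empty fun l => Am J (a l) (b l), h]; rfl)
  obtain ⟨j, hj⟩ := hne
  refine ⟨S, hS, ⟨j, hj⟩, hC.patAll hJ hS (a := Function.update a j (c • a j)) (b := b) (fun l hl => ?_) ?_⟩
  · rcases eq_or_ne l j with rfl | hlj
    · simpa using (hk l hl).smul hc0
    · simpa [hlj] using hk l hl
  · convert hY using 1
    rw [hc, pat_congr (os' := Function.update (fun l => Am J (a l) (b l)) j (c • Am J (a j) (b j))) fun l _ => ?_,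
      pat_update_smul hj, Function.update_eq_self]
    · rfl
    · rcases eq_or_ne l j with rfl | hlj
      · simp [Am_smul_left]
      · simp [hlj]

end CfsgLib.TensorSympChar2
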