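import Cfsg.Agent.Lib.TensorSympChar2.Grow

/-!
With products of pairs in all slots but one, every long root of the symplectic space of those slots is a coefficient
in the remaining slot.
-/

set_option autoImplicit false
set_option linter.unusedSectionVars false
set_option linter.unusedSimpArgs false

namespace CfsgLib.TensorSympChar2

open Matrix Module
open scoped Kronecker
open CfsgLib.Maximal.TensorPower
open CfsgLib.TensorWreathMax (Idx split rx In rx_pm dot_tp)
open CfsgLib.TensorSympWreath

attribute [-simp] Matrix.coe_units_inv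

variable {F : Type*} [Field F] {m t : ℕ} {J : Matrix (Fin m) (Fin m) F}

/-- The root direction of two vectors for a form on the tensor power. -/
def Tm {ι : Type} [Fintype ι] [DecidableEq ι] (K : Matrix ι ι F) (z w : ι → F) : Matrix ι ι F :=
  vecMulVec z (w ᵥ* K) + vecMulVec w (z ᵥ* K)

theorem Tm_mulVec {ι : Type} [Fintype ι] [DecidableEq ι] (K : Matrix ι ι F) (z w y : ι → F) :
    Tm K z w *ᵥ y = (w ⬝ᵥ K *ᵥ y) • z + (z ⬝ᵥ K *ᵥ y) • w := by
  rw [Tm, add_mulVec, vecMulVec_mulVec, vecMulVec_mulVec, op_smul_eq_smul, op_smul_eq_smul, dotProduct_mulVec,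
    dotProduct_mulVec]

theorem Jt_symm (hJ : Alt J) (h2 : (2 : F) = 0) (t : ℕ) : (Jt J t)ᵀ = Jt J t := by
  have h : (-1 : F) = 1 := by linear_combination -h2
  rw [Jt_transpose hJ, h, one_pow, one_smul]

theorem Jt_dot_tp (J : Matrix (Fin m) (Fin m) F) (a b : Fin t → Fin m → F) :
    tp a ⬝ᵥ Jt J t *ᵥ tp b = ∏ l, fm J (a l) (b l) := by
  rw [Jt, pm_mulVec, dot_tp]
  simp only [fm_apply, dotProduct_mulVec]

/-- The bracket of two root directions. -/
theorem Tm_bracket {ι : Type} [Fintype ι] [DecidableEq ι] {K : Matrix ι ι F} (hK : Kᵀ = K) (a b c d : ι → F) :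
    Tm K a b * Tm K c d + Tm K c d * Tm K a b =
      (b ⬝ᵥ K *ᵥ c) • Tm K a d + (a ⬝ᵥ K *ᵥ c) • Tm K b d + (b ⬝ᵥ K *ᵥ d) • Tm K a c +
        (a ⬝ᵥ K *ᵥ d) • Tm K b c := by
  have hs : ∀ x y : ι → F, x ⬝ᵥ K *ᵥ y = y ⬝ᵥ K *ᵥ x := fun x y => by
    rw [dotProduct_mulVec, ← mulVec_transpose, hK, dotProduct_comm]
  refine Matrix.ext_of_mulVec_single fun l => ?_
  generalize (Pi.single l (1 : F) : ι → F) = y
  simp only [add_mulVec, smul_mulVec, ← mulVec_mulVec, Tm_mulVec, mulVec_add, mulVec_smul, dotProduct_add,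
    dotProduct_smul, smul_eq_mul, hs c a, hs c b, hs d a, hs d b]
  module

/-- An operator of the other slots. -/
def lft (i : Fin (t + 1)) (Y : Matrix (Idx m t) (Idx m t) F) : Matrix (Idx m (t + 1)) (Idx m (t + 1)) F :=
  (rx i).symm ((1 : Matrix (Fin m) (Fin m) F) ⊗ₖ Y)

theorem lft_add (i : Fin (t + 1)) (Y Z : Matrix (Idx m t) (Idx m t) F) : lft i (Y + Z) = lft i Y + lft i Z := by
  rw [lft, kronecker_add, map_add]; rfl

theorem lft_smul (i : Fin (t + 1)) (c : F) (Y : Matrix (Idx m t) (Idx m t) F) : lft i (c • Y) = c • lft i Y := by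
  rw [lft, kronecker_smul, map_smul]; rfl

theorem lft_mul (i : Fin (t + 1)) (Y Z : Matrix (Idx m t) (Idx m t) F) : lft i (Y * Z) = lft i Y * lft i Z := by
  rw [lft, lft, lft, ← map_mul, ← mul_kronecker_mul, one_mul]

theorem lft_pm (i : Fin (t + 1)) (os : Fin t → Matrix (Fin m) (Fin m) F) :
    lft i (pm os) = pat (Finset.univ.erase i) (i.insertNth 0 os) := by
  rw [lft, AlgEquiv.symm_apply_eq, pat, rx_pm]
  congr 2
  · simp [ops]
  · funext l
    simp [ops, Fin.removeNth, Fin.succAbove_ne]

theorem pm_vecMulVec (J : Matrix (Fin m) (Fin m) F) (a d : Fin t → Fin m → F) :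
    pm (fun l => vecMulVec (a l) (d l ᵥ* J)) = vecMulVec (tp a) (tp d ᵥ* Jt J t) := by
  have h : tp d ᵥ* Jt J t = tp fun l => d l ᵥ* J := by
    rw [Jt, ← transpose_transpose (pm fun _ => J), vecMul_transpose, pm_transpose, pm_mulVec]
    congr 1
    funext l
    rw [mulVec_transpose]
  ext x y
  simp [h, pm, tp, vecMulVec_apply, Finset.prod_mul_distrib]

namespace Ev

variable {M : Subgroup (GL (Idx m (t + 1)) F)} (hW : Ev J M) {i : Fin (t + 1)}
include hW

/-- The roots of two slotwise orthogonal pure tensors. -/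
theorem coef_Tm_pure (hm : 6 ≤ m) (hP : PatAll J (Coef J M i) (Finset.univ.erase i)) (a d : Fin t → Fin m → F)
    (hda : ∀ l, fm J (a l) (d l) = 0) : Coef J M i (lft i (Tm (Jt J t) (tp a) (tp d))) := by
  have hzero : ∀ u : Fin t → Fin m → F, ∀ l, u l = 0 → tp u = 0 := fun u l hl => funext fun x =>
    Finset.prod_eq_zero (Finset.mem_univ l) (by rw [hl]; rfl)
  by_cases h0 : ∃ l, a l = 0 ∨ d l = 0
  · obtain ⟨l, hl⟩ := h0
    have : Tm (Jt J t) (tp a) (tp d) = 0 := by
      rcases hl with hl | hl <;> simp [Tm, hzero _ l hl]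
    rw [this, show lft i (0 : Matrix (Idx m t) (Idx m t) F) = 0 by simp [lft]]
    exact hW.coef_zero
  push Not at h0
  choose b c hab hcd hac hbd hbc _ using fun l => exists_step hW.alt hW.two hm (h0 l).1 (h0 l).2 (hda l)
  have hpat : ∀ u v : Fin t → Fin m → F, (∀ l, IPair J (u l) (v l)) →
      Coef J M i (lft i (pm fun l => Am J (u l) (v l))) := fun u v huv => by
    have h := hP (i.insertNth 0 u) (i.insertNth 0 v) fun l hl => by
      obtain ⟨l', rfl⟩ := Fin.exists_succAbove_eq (Finset.ne_of_mem_erase hl)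
      simpa using huv l'
    rw [lft_pm]
    convert h using 1
    refine pat_congr fun l hl => ?_
    obtain ⟨l', rfl⟩ := Fin.exists_succAbove_eq (Finset.ne_of_mem_erase hl)
    simp
  have h := hW.coef_bracket hm (hpat a b hab) (hpat c d hcd)
  rw [← lft_mul, ← lft_mul, ← lft_add, pm_mul, pm_mul] at h
  rw [Tm, ← pm_vecMulVec, ← pm_vecMulVec]
  convert h using 5
  · rename_i l
    simp [Am_eq hW.two, add_mul, mul_add, vv_mul, hbc l, hbd l, hac l, hda l]
  · rename_i l
    simp [Am_eq hW.two, add_mul, mul_add, vv_mul, fm_symm hW.alt hW.two (a l) (c l),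
      fm_symm hW.alt hW.two (b l) (c l), fm_symm hW.alt hW.two (a l) (d l), fm_symm hW.alt hW.two (b l) (d l), hbc l,
      hbd l, hac l, hda l]

/-- The roots of all orthogonal pairs. -/
theorem coef_Tm [Finite F] (hm : 6 ≤ m) (ht : 1 ≤ t) (hP : PatAll J (Coef J M i) (Finset.univ.erase i))
    (z w : Idx m t → F) (hzw : z ⬝ᵥ Jt J t *ᵥ w = 0) : Coef J M i (lft i (Tm (Jt J t) z w)) := by
  classical
  have hJ := hW.alt
  have h2 := hW.two
  obtain ⟨r, e, f, hmr, hee, hff, hef, hsum⟩ := hJ.exists_planes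
  let B : Fin r × Bool → Fin m → F := fun x => if x.2 then e x.1 else f x.1
  let bar : Fin r × Bool → Fin r × Bool := fun x => (x.1, !x.2)
  have hbar : ∀ x, bar (bar x) = x := fun x => by simp [bar]
  have hB : ∀ x y, fm J (B x) (B y) = if y = bar x then 1 else 0 := by
    have h11 : (-1 : F) = 1 := by linear_combination -h2
    have hfe : ∀ a b, fm J (f a) (e b) = if b = a then 1 else 0 := fun a b => by
      rw [fm_symm hJ h2 (e b) (f a), hef, h11]
    rintro ⟨a, _ | _⟩ ⟨b, _ | _⟩
    · simp [B, bar, hff]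
    · simp [B, bar, hfe]
    · simp only [B, bar, hef, h11, if_true, Bool.false_eq_true, if_false, Bool.not_true, Prod.mk.injEq, and_true]
      exact if_congr eq_comm rfl rfl
    · simp [B, bar, hee]
  let E : (Fin t → Fin r × Bool) → Idx m t → F := fun I => tp fun l => B (I l)
  have hE : ∀ I K, E I ⬝ᵥ Jt J t *ᵥ E K = if K = fun l => bar (I l) then 1 else 0 := fun I K => by
    rw [Jt_dot_tp]
    simp only [hB, Finset.prod_boole, funext_iff, Finset.mem_univ, true_implies]
  have hspan : Submodule.span F (Set.range E) = ⊤ := by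
    rw [eq_top_iff, ← (Pi.basisFun F (Idx m t)).span_eq, Submodule.span_le]
    rintro _ ⟨a, rfl⟩
    rw [Pi.basisFun_apply]
    have hc : ∀ x : Fin m → F, ∃ C : Fin r × Bool → F, x = ∑ y, C y • B y := fun x => by
      refine ⟨fun y => if y.2 then fm J (f y.1) x else fm J (e y.1) x, ?_⟩
      rw [Fintype.sum_prod_type]
      simp only [Fintype.sum_bool, B, if_true, Bool.false_eq_true, if_false]
      conv_lhs => rw [← one_mulVec x, ← hsum, sum_mulVec]
      refine Finset.sum_congr rfl fun l _ => ?_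
      rw [Am_mulVec, sub_eq_add_neg, neg_self h2]
    choose C hC using fun l => hc (Pi.single (a l) 1)
    rw [← tp_single a, show tp (fun l => Pi.single (a l) (1 : F)) = ∑ I, (∏ l, C l (I l)) • E I from funext fun x => by
      simp only [tp, E, Finset.sum_apply, Pi.smul_apply, smul_eq_mul, ← Finset.prod_mul_distrib]
      refine (Finset.prod_congr rfl fun l _ => ?_).trans (Fintype.prod_sum fun l y => C l y * B y (x l))
      simpa using congrFun (hC l) (x l)]
    exact Submodule.sum_mem _ fun I _ => Submodule.smul_mem _ _ (Submodule.subset_span ⟨I, rfl⟩)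
  let T : Submodule F (Matrix (Idx m t) (Idx m t) F) :=
    { carrier := {Y | Coef J M i (lft i Y)}
      zero_mem' := by
        show Coef J M i (lft i 0)
        rw [show lft i (0 : Matrix (Idx m t) (Idx m t) F) = 0 by simp [lft]]
        exact hW.coef_zero
      add_mem' := fun {Y Z} hY hZ => by
        show Coef J M i (lft i (Y + Z))
        rw [lft_add]; exact hW.coef_add hY hZ
      smul_mem' := fun c Y hY => by
        show Coef J M i (lft i (c • Y))
        rw [lft_smul]; exact hW.coef_smul hY c }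
  have hbk : ∀ {Y Z}, Y ∈ T → Z ∈ T → Y * Z + Z * Y ∈ T := fun {Y Z} hY hZ => by
    show Coef J M i (lft i _)
    rw [lft_add, lft_mul, lft_mul]
    exact hW.coef_bracket hm hY hZ
  have hpl : ∀ {I K : Fin t → Fin r × Bool}, (∀ l, K l ≠ bar (I l)) → Tm (Jt J t) (E I) (E K) ∈ T := fun {I K} h =>
    hW.coef_Tm_pure hm hP _ _ fun l => by rw [hB, if_neg (h l)]
  have hr : 2 < r := by omega
  have hex : ∀ x y : Fin r × Bool, ∃ p : Fin r, p ≠ x.1 ∧ p ≠ y.1 := fun x y => by
    obtain ⟨p, -, hp⟩ := Finset.exists_mem_notMem_of_card_lt_card (s := ({x.1, y.1} : Finset (Fin r)))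
      (t := Finset.univ) (by
        rw [Finset.card_univ, Fintype.card_fin]
        exact lt_of_le_of_lt Finset.card_le_two hr)
    simp only [Finset.mem_insert, Finset.mem_singleton, not_or] at hp
    exact ⟨p, hp⟩
  haveI : Nonempty (Fin t) := ⟨⟨0, ht⟩⟩
  have hne : ∀ {u v : Fin t → Fin r × Bool}, (∀ l, (u l).1 ≠ (v l).1) → u ≠ v := fun {u v} h he =>
    h (Classical.arbitrary _) (by rw [he])
  have hstep : ∀ I K : Fin t → Fin r × Bool, ∀ L : Fin t → Fin r × Bool,
      (∀ l, (L l).1 ≠ (I l).1) → (∀ l, (L l).1 ≠ (K l).1) →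
      Tm (Jt J t) (E I) (E K) + (if K = fun l => bar (I l) then (1 : F) else 0) •
        Tm (Jt J t) (E L) (E fun l => bar (L l)) ∈ T := by
    intro I K L h1 h3
    have h := hbk (hpl (I := I) (K := L) fun l e => h1 l (by rw [e]))
      (hpl (I := fun l => bar (L l)) (K := K) fun l e => h3 l (by rw [e, hbar]))
    rw [Tm_bracket (Jt_symm hJ h2 t), hE, hE, hE, hE, if_pos rfl,
      if_neg (hne (u := fun l => bar (L l)) (v := fun l => bar (I l)) fun l => h1 l),
      if_neg (hne (u := K) (v := fun l => bar (L l)) fun l e => h3 l e.symm)] at h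
    simpa using h
  have hgen : ∀ I K : Fin t → Fin r × Bool, K ≠ (fun l => bar (I l)) → Tm (Jt J t) (E I) (E K) ∈ T := fun I K h => by
    choose p hp1 hp2 using fun l => hex (I l) (K l)
    simpa [if_neg h] using hstep I K (fun l => (p l, true)) hp1 hp2
  have hpair : ∀ I K : Fin t → Fin r × Bool,
      Tm (Jt J t) (E I) (E fun l => bar (I l)) + Tm (Jt J t) (E K) (E fun l => bar (K l)) ∈ T := fun I K => by
    choose p hp1 hp2 using fun l => hex (I l) (K l)
    have hI := hstep I (fun l => bar (I l)) (fun l => (p l, true)) hp1 hp1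
    have hK := hstep K (fun l => bar (K l)) (fun l => (p l, true)) hp2 hp2
    rw [if_pos rfl, one_smul] at hI hK
    have h := T.add_mem hI hK
    rwa [add_add_add_comm, add_self h2, add_zero] at h
  let q := T.mkQ
  let Tb : (Idx m t → F) →ₗ[F] (Idx m t → F) →ₗ[F] (Matrix (Idx m t) (Idx m t) F ⧸ T) :=
    LinearMap.mk₂ F (fun u v => q (Tm (Jt J t) u v))
      (fun u u' v => by
        rw [← map_add]; congr 1
        simp only [Tm, add_vecMulVec, vecMulVec_add, add_vecMul]; abel)
      (fun c u v => by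
        rw [← map_smul]; congr 1
        simp only [Tm, smul_vecMulVec, vecMulVec_smul, smul_vecMul, smul_add])
      (fun u v v' => by
        rw [← map_add]; congr 1
        simp only [Tm, add_vecMulVec, vecMulVec_add, add_vecMul]; abel)
      (fun c u v => by
        rw [← map_smul]; congr 1
        simp only [Tm, smul_vecMulVec, vecMulVec_smul, smul_vecMul, smul_add])
  have hi0 : 0 < r := by omega
  let I₀ : Fin t → Fin r × Bool := fun _ => (⟨0, hi0⟩, true)
  let τ := q (Tm (Jt J t) (E I₀) (E fun l => bar (I₀ l)))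
  have hall : ∀ u v, Tb u v = (u ⬝ᵥ Jt J t *ᵥ v) • τ := by
    have h1 : ∀ I v, Tb (E I) v = (E I ⬝ᵥ Jt J t *ᵥ v) • τ := fun I v => by
      have hv : v ∈ Submodule.span F (Set.range E) := hspan ▸ Submodule.mem_top
      induction hv using Submodule.span_induction with
      | mem x hx =>
        obtain ⟨K, rfl⟩ := hx
        rw [hE]
        show q (Tm (Jt J t) (E I) (E K)) = _
        by_cases h : K = fun l => bar (I l)
        · rw [if_pos h, one_smul, h, ← sub_eq_zero, ← map_sub]
          refine (Submodule.Quotient.mk_eq_zero T).2 ?_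
          rw [sub_eq_add_neg, neg_self h2]
          exact hpair I I₀
        · rw [if_neg h, zero_smul]
          exact (Submodule.Quotient.mk_eq_zero T).2 (hgen I K h)
      | zero => simp
      | add x y _ _ hx hy => rw [map_add, hx, hy, mulVec_add, dotProduct_add, add_smul]
      | smul c x _ hx => rw [map_smul, hx, mulVec_smul, dotProduct_smul, smul_smul, smul_eq_mul]
    intro u v
    have hu : u ∈ Submodule.span F (Set.range E) := hspan ▸ Submodule.mem_top
    induction hu using Submodule.span_induction with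
    | mem x hx => obtain ⟨I, rfl⟩ := hx; exact h1 I v
    | zero => simp
    | add x y _ _ hx hy => rw [map_add, LinearMap.add_apply, hx, hy, add_dotProduct, add_smul]
    | smul c x _ hx => rw [map_smul, LinearMap.smul_apply, hx, smul_dotProduct, smul_smul, smul_eq_mul]
  have h := hall z w
  rw [hzw, zero_smul] at h
  exact (Submodule.Quotient.mk_eq_zero T).1 h

end Ev

end CfsgLib.TensorSympChar2
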