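import Cfsg.Agent.Lib.TensorSympEven.Maximal
import Cfsg.Agent.Lib.TensorSympChar2.Root

/-!
A tensor power of a symplectic form as a quadratic space in characteristic two: the elements of the stabiliser in
`Ω`, and an element outside it.
-/

set_option autoImplicit false
set_option linter.unusedSectionVars false
set_option linter.unusedSimpArgs false
set_option linter.style.haveILetI false

namespace CfsgLib.TensorSympChar2

open Matrix QuadraticMap
open scoped Kronecker commutatorElement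
open CfsgLib.Maximal.TensorPower
open CfsgLib.TensorWreathMax (Idx In split rx tvec permM permM_mulVec permM_mul_self dot_tp)
open CfsgLib.TensorSympWreath
open CfsgLib.TensorSympEven (omega omega_map spl Tv rst tvec_Tv ext_Tv mulVec_Tv dot_tvec dot_pl sum_not_pure)
open CfsgLib.GeomClasses
open CfsgLib.GeomClasses.TensorMax (V2 M2)
open CfsgLib.Orth (O app eich app_eich)

attribute [-simp] Matrix.coe_units_inv

/-- A quadratic space in characteristic two similar to a tensor power, vanishing on pure tensors. -/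
structure Frame (F : Type*) [Field F] (n k t : ℕ) where
  J : Matrix (Fin k) (Fin k) F
  alt : Alt J
  two : (2 : F) = 0
  q : QuadraticForm F (Fin n → F)
  c : F
  c_ne : c ≠ 0
  cd : (Idx k t → F) ≃ₗ[F] (Fin n → F)
  φ : GL (Idx k t) F ≃* GL (Fin n) F
  act : ∀ g x, (φ g : Matrix (Fin n) (Fin n) F) *ᵥ cd x = cd ((g : Matrix (Idx k t) (Idx k t) F) *ᵥ x)
  form : ∀ x y, polar q (cd x) (cd y) = c * (x ⬝ᵥ Jt J t *ᵥ y)
  pure : ∀ xs : Fin t → Fin k → F, q (cd (tp xs)) = 0

variable {F : Type*} [Field F] {n k t : ℕ}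

/-- An additive functional of a coordinate space is fixed by its values on the lines of the standard vectors. -/
theorem eq_zero_of_single {ι : Type} [Fintype ι] [DecidableEq ι] {f : (ι → F) → F}
    (hadd : ∀ x y, f (x + y) = f x + f y) (h : ∀ i c, f (Pi.single i c) = 0) (x : ι → F) : f x = 0 := by
  let g : (ι → F) →+ F := AddMonoidHom.mk' f hadd
  show g x = 0
  rw [← Finset.univ_sum_single x, map_sum]
  exact Finset.sum_eq_zero fun i _ => h i _

theorem Jt_self {J : Matrix (Fin k) (Fin k) F} (hJ : Alt J) (h2 : (2 : F) = 0) (ht : 1 ≤ t) (x : Idx k t → F) :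
    x ⬝ᵥ Jt J t *ᵥ x = 0 := by
  have hs : ∀ x y : Idx k t → F, x ⬝ᵥ Jt J t *ᵥ y = y ⬝ᵥ Jt J t *ᵥ x := fun x y => by
    rw [dotProduct_mulVec, ← mulVec_transpose, Jt_symm hJ h2, dotProduct_comm]
  refine eq_zero_of_single (f := fun x => x ⬝ᵥ Jt J t *ᵥ x) (fun x y => ?_) (fun a c => ?_) x
  · simp only [mulVec_add, add_dotProduct, dotProduct_add, hs y x]
    linear_combination (x ⬝ᵥ Jt J t *ᵥ y) * h2
  · simp only [mulVec_single, single_dotProduct]
    have : Jt J t a a = 0 := by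
      show ∏ l, J (a l) (a l) = 0
      refine Finset.prod_eq_zero (Finset.mem_univ ⟨0, ht⟩) ?_
      have := hJ.alt (Pi.single (a ⟨0, ht⟩) 1)
      simpa using this
    simp [this]

namespace Frame

variable (Fr : Frame F n k t)

theorem iso_of_mem_O {g : GL (Idx k t) F} (h : Fr.φ g ∈ O Fr.q) :
    Iso (Jt Fr.J t) (g : Matrix (Idx k t) (Idx k t) F) := by
  refine Matrix.toBilin'.injective (LinearMap.ext fun x => LinearMap.ext fun y => ?_)
  have h' := CfsgLib.Orth.polar_app (Q := Fr.q) ⟨_, h⟩ (Fr.cd x) (Fr.cd y)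
  rw [CfsgLib.Orth.app_apply, CfsgLib.Orth.app_apply, Fr.act, Fr.act, Fr.form, Fr.form] at h'
  rw [Matrix.toBilin'_apply', Matrix.toBilin'_apply', ← mulVec_mulVec, ← mulVec_mulVec, dotProduct_mulVec x,
    vecMul_transpose]
  exact mul_left_cancel₀ Fr.c_ne h'

theorem iso_of_mem_omega {g : GL (Idx k t) F} (h : Fr.φ g ∈ omega Fr.q) :
    Iso (Jt Fr.J t) (g : Matrix (Idx k t) (Idx k t) F) := by
  obtain ⟨g', -, hg'⟩ := h
  exact Fr.iso_of_mem_O (hg' ▸ g'.2)

/-- An isometry of the form sending the standard tensors to singular vectors is orthogonal. -/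
theorem mem_O {g : GL (Idx k t) F} (hg : Iso (Jt Fr.J t) (g : Matrix (Idx k t) (Idx k t) F))
    (hs : ∀ a, Fr.q (Fr.cd ((g : Matrix (Idx k t) (Idx k t) F) *ᵥ Pi.single a 1)) = 0) : Fr.φ g ∈ O Fr.q := by
  intro v _
  obtain ⟨x, rfl⟩ := Fr.cd.surjective v
  show Fr.q ((Fr.φ g : Matrix (Fin n) (Fin n) F) *ᵥ Fr.cd x) = Fr.q (Fr.cd x)
  rw [Fr.act, ← sub_eq_zero]
  refine eq_zero_of_single (f := fun x => Fr.q (Fr.cd ((g : Matrix (Idx k t) (Idx k t) F) *ᵥ x)) - Fr.q (Fr.cd x))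
    (fun x y => ?_) (fun a c => ?_) x
  · simp only [mulVec_add, map_add, QuadraticMap.map_add (Fr.q : (Fin n → F) → F), Fr.form]
    rw [← vecMul_transpose (g : Matrix (Idx k t) (Idx k t) F) x, ← dotProduct_mulVec, mulVec_mulVec, mulVec_mulVec,
      show _ = Jt Fr.J t from hg]
    ring
  · have e : (Pi.single a c : Idx k t → F) = c • Pi.single a 1 := by rw [← Pi.single_smul, smul_eq_mul, mul_one]
    simp only [e, mulVec_smul, map_smul, QuadraticMap.map_smul, hs]
    rw [← tp_single (F := F) a, Fr.pure, sub_self]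

end Frame

namespace Frame

variable (Fr : Frame F n k (t + 1)) (ht : 1 ≤ t) (p : Fin (t + 1))

theorem polar_tp (xs ys : Fin (t + 1) → Fin k → F) :
    polar Fr.q (Fr.cd (tp xs)) (Fr.cd (tp ys)) = Fr.c * ∏ l, fm Fr.J (xs l) (ys l) := by
  rw [Fr.form, Jt, pm_mulVec, dot_tp]
  simp only [fm_apply, dotProduct_mulVec]

theorem nondeg : Fr.q.polarBilin.Nondegenerate := by
  have key : ∀ z, (∀ y, polar Fr.q z y = 0) → z = 0 := by
    intro z hz
    obtain ⟨x, rfl⟩ := Fr.cd.surjective z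
    obtain ⟨u, hu⟩ := Jt_isUnit (t := t + 1) Fr.alt
    have h1 : x ᵥ* Jt Fr.J (t + 1) = 0 := funext fun a => by
      have h := hz (Fr.cd (Pi.single a 1))
      rw [Fr.form, dotProduct_mulVec, dotProduct_single, mul_one] at h
      exact (mul_eq_zero.1 h).resolve_left Fr.c_ne
    have h2 : x = 0 := by
      rw [← vecMul_one x, ← Units.mul_inv u, ← vecMul_vecMul, hu, h1, zero_vecMul]
    rw [h2, map_zero]
  exact ⟨key, fun z hz => key z fun y => by rw [polar_comm]; exact hz y⟩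

include Fr ht in
theorem card_le (hk : 6 ≤ k) : 4 ≤ k ^ t ∧ 7 ≤ k * k ^ t ∧ 7 ≤ n := by
  have h0 : k ≤ k ^ t := Nat.le_self_pow (by omega) k
  have h1 := Nat.mul_le_mul hk (show 6 ≤ k ^ t by omega)
  refine ⟨by omega, by omega, ?_⟩
  have := Fr.cd.finrank_eq
  rw [Module.finrank_fintype_fun_eq_card, Module.finrank_fintype_fun_eq_card, Fintype.card_fun, Fintype.card_fin,
    Fintype.card_fin, Fintype.card_fin, pow_succ'] at this
  omega

theorem polar_Tv (u u' : Fin k → F) (w w' : Fin (k ^ t) → F) :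
    polar Fr.q (Fr.cd (Tv p (TensorMax.pl w u))) (Fr.cd (Tv p (TensorMax.pl w' u'))) =
      Fr.c * (fm Fr.J u u' * (rst w ⬝ᵥ Jt Fr.J t *ᵥ rst w')) := by
  rw [Fr.form, ← dot_tvec p, ← CfsgLib.TensorWreathMax.rx_mulVec_tvec, rx_Jt, tvec_Tv, tvec_Tv,
    CfsgLib.TensorWreathMax.kronecker_mulVec_pl, dot_pl, dotProduct_mulVec, ← fm_apply]

theorem q_Tv (u : Fin k → F) (w : Fin (k ^ t) → F) : Fr.q (Fr.cd (Tv p (TensorMax.pl w u))) = 0 := by
  refine eq_zero_of_single (f := fun w => Fr.q (Fr.cd (Tv p (TensorMax.pl w u)))) (fun x y => ?_) (fun a c => ?_) w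
  · simp only [CfsgLib.TensorSympPair.pl_add_left, map_add, QuadraticMap.map_add (Fr.q : (Fin n → F) → F), Fr.polar_Tv,
      Fr.alt.self, zero_mul, mul_zero, add_zero]
  · have e : (Pi.single a c : Fin (k ^ t) → F) = c • Pi.single a 1 := by rw [← Pi.single_smul, smul_eq_mul, mul_one]
    have e2 : Tv p (TensorMax.pl (Pi.single a (1 : F)) u) =
        tp (p.insertNth u fun l => Pi.single (finFunctionFinEquiv.symm a l) 1) := by
      refine (tvec p).injective ?_
      rw [tvec_Tv, CfsgLib.TensorWreathMax.tvec_tp, Fin.insertNth_apply_same, Fin.removeNth_insertNth, tp_single]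
      congr 1
      funext x
      simp [rst, Pi.single_apply, Equiv.eq_symm_apply]
    simp only [e, CfsgLib.TensorSympPair.pl_smul_left, map_smul, QuadraticMap.map_smul, e2, Fr.pure, smul_zero]

/-- The space at a splitting. -/
noncomputable def data : CfsgLib.TensorSympPair.Data F k (k ^ t) where
  β := Fr.c • fm Fr.J
  γ := Matrix.toBilin' (Matrix.reindex finFunctionFinEquiv finFunctionFinEquiv (Jt Fr.J t))
  q := Fr.q.comp ((Tv p).trans Fr.cd).toLinearMap
  βalt := fun x => by simp [Fr.alt.self]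
  βnd := ⟨fun x hx => Fr.alt.nondeg.1 x fun y => by simpa [Fr.c_ne] using hx y,
    fun x hx => Fr.alt.nondeg.2 x fun y => by simpa [Fr.c_ne] using hx y⟩
  γalt := fun x => by
    have h := Jt_self Fr.alt Fr.two ht (rst x)
    rw [Matrix.toBilin'_apply', Matrix.reindex_apply, Matrix.submatrix_mulVec_equiv]
    simp only [Equiv.symm_symm]
    rw [← h]
    simp only [rst, dotProduct]
    rw [← Equiv.sum_comp finFunctionFinEquiv]
    simp
  γnd := by
    rw [LinearMap.BilinForm.nondegenerate_toBilin'_iff_det_ne_zero, Matrix.det_reindex_self]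
    exact ((Matrix.isUnit_iff_isUnit_det _).1 (Jt_isUnit Fr.alt)).ne_zero
  q_pl := fun u w => Fr.q_Tv p u w
  polar_pl := fun u w u' w' => by
    show Fr.q (Fr.cd (Tv p (TensorMax.pl w u + TensorMax.pl w' u'))) - Fr.q (Fr.cd (Tv p (TensorMax.pl w u))) -
      Fr.q (Fr.cd (Tv p (TensorMax.pl w' u'))) = _
    rw [map_add, map_add]
    refine (Fr.polar_Tv p u u' w w').trans ?_
    rw [Matrix.toBilin'_apply' _ w, Matrix.reindex_apply, Matrix.submatrix_mulVec_equiv]
    simp only [LinearMap.smul_apply, smul_eq_mul, Equiv.symm_symm, mul_assoc]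
    congr 2
    simp only [rst, dotProduct]
    conv_rhs => rw [← Equiv.sum_comp finFunctionFinEquiv]
    simp

theorem γ_eq (w w' : Fin (k ^ t) → F) : (Fr.data ht p).γ w w' = rst w ⬝ᵥ Jt Fr.J t *ᵥ rst w' := by
  show Matrix.toBilin' _ w w' = _
  rw [Matrix.toBilin'_apply', Matrix.reindex_apply, Matrix.submatrix_mulVec_equiv]
  simp only [Equiv.symm_symm, rst, dotProduct]
  conv_lhs => rw [← Equiv.sum_comp finFunctionFinEquiv]
  simp

theorem β_eq (u u' : Fin k → F) : (Fr.data ht p).β u u' = Fr.c * fm Fr.J u u' := rfl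

/-- The groups at a splitting and on the whole space. -/
def Φ : GL (Fin k × Fin (k ^ t)) F ≃* GL (Fin n) F := (Cfsg.Geo.glReindex (spl k p).symm).trans Fr.φ

theorem act_Φ (g : GL (Fin k × Fin (k ^ t)) F) (x : V2 F k (k ^ t)) :
    (Fr.Φ p g : Matrix (Fin n) (Fin n) F) *ᵥ Fr.cd (Tv p x) = Fr.cd (Tv p ((g : M2 F k (k ^ t)) *ᵥ x)) := by
  show (Fr.φ (Cfsg.Geo.glReindex (spl k p).symm g) : Matrix (Fin n) (Fin n) F) *ᵥ _ = _
  rw [Fr.act]
  congr 1
  show (Matrix.reindexAlgEquiv F F (spl k p).symm (g : M2 F k (k ^ t))) *ᵥ _ = _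
  funext a
  simp [Tv, Matrix.reindexAlgEquiv_apply, Matrix.submatrix_mulVec_equiv, LinearEquiv.funCongrLeft_apply,
    LinearMap.funLeft, Function.comp_def]

theorem omega_eq : (Fr.data ht p).omega.map (Fr.Φ p).toMonoidHom = omega Fr.q :=
  omega_map Fr.q ((Tv p).trans Fr.cd) (Fr.Φ p) (Fr.act_Φ p)

theorem Φ_eq {g : GL (Fin k × Fin (k ^ t)) F} {x : GL (Idx k (t + 1)) F}
    (h : ∀ w u, (g : M2 F k (k ^ t)) *ᵥ TensorMax.pl w u =
      (Tv p).symm ((x : Matrix (Idx k (t + 1)) (Idx k (t + 1)) F) *ᵥ Tv p (TensorMax.pl w u))) :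
    Fr.Φ p g = Fr.φ x := by
  refine congrArg Fr.φ (Units.ext (ext_Tv p fun w u => ?_))
  apply Fr.cd.injective
  rw [← Fr.act]
  exact (Fr.act_Φ p g _).trans (by rw [h, LinearEquiv.apply_symm_apply])

include ht in
/-- Slot transvections are in `Ω`. -/
theorem root_mem [Fintype F] (hn : 7 ≤ Fintype.card (Fin k × Fin (k ^ t))) (u : Fin k → F) (r : F) :
    In ((omega Fr.q).comap Fr.φ.toMonoidHom) (1 + r • slot p (Xm Fr.J u)) := by
  have hinv : ∀ s : F, slot p (1 + s • Xm Fr.J u) * slot p (1 + (-s) • Xm Fr.J u) =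
      (1 : Matrix (Idx k (t + 1)) (Idx k (t + 1)) F) := fun s => by rw [slot_mul, root_mul Fr.alt, slot_one]
  let x : GL (Idx k (t + 1)) F := ⟨slot p (1 + r • Xm Fr.J u), slot p (1 + (-r) • Xm Fr.J u), hinv r,
    by simpa using hinv (-r)⟩
  have hx : (x : Matrix (Idx k (t + 1)) (Idx k (t + 1)) F) = 1 + r • slot p (Xm Fr.J u) := by
    show slot p (1 + r • Xm Fr.J u) = _
    rw [map_add, map_smul, slot_one]
  refine ⟨x, ?_, hx⟩
  show Fr.φ x ∈ omega Fr.q
  have he : Fr.Φ p (TensorMax.el (TensorMax.tu ((Fr.data ht p).bv u) ((r / Fr.c) • u) :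
      V2 F k (k ^ t) →ₗ[F] V2 F k (k ^ t))) = Fr.φ x := by
    refine Fr.Φ_eq p fun w v => ?_
    rw [TensorMax.el_mulVec (TensorMax.tu_sq (by
        rw [dotProduct_smul, CfsgLib.TensorSympPair.Data.bv_dot, CfsgLib.TensorSympPair.Data.β_self, smul_zero])),
      TensorMax.tu_apply, TensorMax.D_pl, TensorMax.pr_eq, CfsgLib.TensorSympPair.Data.bv_dot, β_eq, hx,
      mulVec_Tv p (A := 1 + r • Xm Fr.J u) (B := 1) (by
        rw [map_add, map_one, map_smul, CfsgLib.TensorWreathMax.rx_slot_same, ← smul_kronecker, ← one_kronecker_one,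
          ← add_kronecker]), LinearEquiv.symm_apply_apply]
    have hw : ((1 : Matrix (Idx k t) (Idx k t) F) *ᵥ rst w) ∘ finFunctionFinEquiv.symm = w := by
      funext a; simp [rst]
    rw [hw, add_mulVec, one_mulVec, smul_mulVec, Xm_mulVec, map_add, CfsgLib.TensorSympPair.pl_smul_left, ← map_smul]
    congr 2
    rw [smul_smul, smul_smul, show Fr.c * fm Fr.J u v * (r / Fr.c) = r * fm Fr.J u v by
      rw [mul_right_comm, mul_div_cancel₀ r Fr.c_ne]]
  rw [← he, ← Fr.omega_eq ht p]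
  exact Subgroup.mem_map_of_mem _ ((Fr.data ht p).leftT_mem hn u (r / Fr.c))

theorem swap_mem_O (x y : Fin (t + 1)) {g : GL (Idx k (t + 1)) F}
    (hg : (g : Matrix (Idx k (t + 1)) (Idx k (t + 1)) F) = permM (Equiv.swap x y)) : Fr.φ g ∈ O Fr.q := by
  refine Fr.mem_O (by rw [hg]; exact iso_permM x y) fun a => ?_
  rw [hg, ← tp_single (F := F) a, permM_mulVec]
  exact Fr.pure _

/-- A product of two exchanges of slots is in `Ω`. -/
theorem double_mem {a b c d : Fin (t + 1)} (hab : a ≠ b) (hcd : c ≠ d) :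
    In ((omega Fr.q).comap Fr.φ.toMonoidHom)
      (permM (Equiv.swap a b) * permM (Equiv.swap c d) : Matrix (Idx k (t + 1)) (Idx k (t + 1)) F) := by
  classical
  let U : Fin (t + 1) → Fin (t + 1) → GL (Idx k (t + 1)) F := fun x y =>
    ⟨permM (Equiv.swap x y), permM (Equiv.swap x y), permM_mul_self (Equiv.swap_mul_self x y),
      permM_mul_self (Equiv.swap_mul_self x y)⟩
  have hUU : ∀ x y, (U x y)⁻¹ = U x y := fun x y => Units.ext rfl
  have hUO : ∀ x y, Fr.φ (U x y) ∈ O Fr.q := fun x y => Fr.swap_mem_O x y rfl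
  set b' := Equiv.swap a c b with hb'
  have hb'c : b' ≠ c := fun h => hab (by
    have h1 := congrArg (Equiv.swap a c) h
    rw [hb', Equiv.swap_apply_self, Equiv.swap_apply_right] at h1
    exact h1.symm)
  -- a permutation conjugating one exchange to the other
  set s : Equiv.Perm (Fin (t + 1)) := Equiv.swap a c * Equiv.swap b' d with hs
  set x := U b' d * U a c with hx
  set g := U a b with hg
  have hconj : x * g * x⁻¹ = U c d := by
    refine Units.ext ?_
    rw [hx, _root_.mul_inv_rev, hUU, hUU]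
    refine ext_tp fun xs => ?_
    simp only [U, hg, Units.val_mul, ← Matrix.mulVec_mulVec, permM_mulVec]
    congr 1
    funext i
    refine congrArg xs ?_
    have e : Equiv.swap (s⁻¹ a) (s⁻¹ b) = s⁻¹ * Equiv.swap a b * s := by
      rw [Equiv.swap_apply_apply, inv_inv]
    have ea : s⁻¹ a = c := by
      rw [Equiv.Perm.inv_eq_iff_eq, hs, Equiv.Perm.mul_apply,
        Equiv.swap_apply_of_ne_of_ne (Ne.symm hb'c) hcd, Equiv.swap_apply_right]
    have eb : s⁻¹ b = d := by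
      rw [Equiv.Perm.inv_eq_iff_eq, hs, Equiv.Perm.mul_apply, Equiv.swap_apply_right, hb', Equiv.swap_apply_self]
    rw [ea, eb] at e
    rw [e, hs, _root_.mul_inv_rev, Equiv.swap_inv, Equiv.swap_inv]
    rfl
  let g' : O Fr.q := ⟨Fr.φ g, hUO a b⟩
  let x' : O Fr.q := ⟨Fr.φ x, by rw [hx, map_mul]; exact mul_mem (hUO _ _) (hUO _ _)⟩
  refine ⟨g * U c d, ⟨⁅g', x'⁆, Subgroup.commutator_mem_commutator (Subgroup.mem_top g') (Subgroup.mem_top x'), ?_⟩,
    rfl⟩
  show Fr.φ g * Fr.φ x * (Fr.φ g)⁻¹ * (Fr.φ x)⁻¹ = Fr.φ (g * U c d)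
  rw [← hconj, ← map_inv, ← map_inv, ← map_mul, ← map_mul, ← map_mul, hg, hUU, mul_assoc (U a b) x, mul_assoc]

include ht in
/-- `Ω` is not monomial. -/
theorem exists_not_monomial [Fintype F] (hk : 6 ≤ k) :
    ∃ x : GL (Idx k (t + 1)) F, Fr.φ x ∈ omega Fr.q ∧ ¬ IsMonomial x := by
  classical
  let v : Fin k → F := Pi.single ⟨0, by omega⟩ 1
  have hv : v ≠ 0 := by simp [v]
  obtain ⟨f, hf⟩ := Fr.alt.exists_pair hv
  have hfv : fm Fr.J f v = 1 := by rw [fm_symm Fr.alt Fr.two v f, hf]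
  have hf0 : f ≠ 0 := fun h => by rw [h, map_zero] at hf; exact zero_ne_one hf
  have hvf : ∀ s : F, v ≠ s • f := fun s h => by
    have h' := congrArg (fun u => fm Fr.J u f) h
    simp [hf, Fr.alt.self] at h'
  obtain ⟨a, hva, hfa, -, ha⟩ := exists_perp_not_mem (J := Fr.J) hk v f f v f
  set ys : Fin (t + 1) → Fin k → F := Function.update (fun _ => v) 0 a
  set l₁ : Fin (t + 1) := ⟨1, by omega⟩
  have hl : (0 : Fin (t + 1)) ≠ l₁ := by simp [l₁, Fin.ext_iff]
  have hys : ∀ l, ys l ≠ 0 := fun l => by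
    rcases eq_or_ne l 0 with rfl | hl
    · intro h; exact ha 0 0 (by simpa [ys] using h)
    · simpa [ys, hl] using hv
  set p₀ := Fr.cd (tp fun _ : Fin (t + 1) => v) with hp₀
  set r := Fr.cd (tp ys) with hr
  set x₀ := Fr.cd (tp fun _ : Fin (t + 1) => f) with hx₀
  have hpr : polar Fr.q p₀ r = 0 := by
    rw [polar_tp, Finset.prod_eq_zero (Finset.mem_univ 0) (by simpa [ys] using hva), mul_zero]
  have hxr : polar Fr.q x₀ r = 0 := by
    rw [polar_tp, Finset.prod_eq_zero (Finset.mem_univ 0) (by simpa [ys] using hfa), mul_zero]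
  have hxp : polar Fr.q x₀ p₀ ≠ 0 := by
    rw [polar_tp]
    exact mul_ne_zero Fr.c_ne (Finset.prod_ne_zero_iff.2 fun l _ => by rw [hfv]; exact one_ne_zero)
  set g := eich Fr.q p₀ r
  refine ⟨Fr.φ.symm g, ?_, fun hmono => ?_⟩
  · rw [MulEquiv.apply_symm_apply]
    exact ⟨g, OrthEich.eich_mem Fr.nondeg (by rw [Fintype.card_fin]; exact (Fr.card_le ht hk).2.2)
      (Fr.pure _) hpr, rfl⟩
  obtain ⟨σ, as, hσ⟩ := hmono
  have h1 := app_eich (Fr.pure _) hpr x₀
  rw [CfsgLib.Orth.app_apply, ← Fr.φ.apply_symm_apply (g : GL (Fin n) F), Fr.act, hσ, hxr, Fr.pure, zero_mul,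
    sub_zero, neg_zero, zero_smul, add_zero, hr, hx₀, ← map_smul, ← map_add] at h1
  exact sum_not_pure hxp (fun _ => hf0) hys hl
    (fun s h => ha 0 s (by simpa [ys] using h)) (fun s => by simpa [ys, Ne.symm hl] using hvf s) (Fr.cd.injective h1)

include ht in
/-- A non-scalar coefficient gives the whole of `Ω`. -/
theorem top [Fintype F] (hk : 6 ≤ k) {M : Subgroup (GL (Fin n) F)}
    (hset : Setting Fr.J (M.comap Fr.φ.toMonoidHom))
    (hperm : ∀ a b c d : Fin (t + 1), a ≠ b → c ≠ d →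
      In (M.comap Fr.φ.toMonoidHom) (permM (Equiv.swap a b) * permM (Equiv.swap c d)))
    {i : Fin (t + 1)} {Y₀ : Matrix (Idx k (t + 1)) (Idx k (t + 1)) F}
    (hY₀ : Coef Fr.J (M.comap Fr.φ.toMonoidHom) i Y₀) (hns : ∀ c : F, Y₀ ≠ c • 1) : omega Fr.q ≤ M := by
  classical
  set M₀ := M.comap Fr.φ.toMonoidHom
  have hW : Ev Fr.J M₀ := ⟨Fr.alt, Fr.two, hset⟩
  obtain ⟨S, hiS, hne, hP⟩ := hW.exists_patAll hk hY₀ hns
  have hfull := hW.pat_full hk hperm hiS hne hP
  obtain ⟨hb, -, -⟩ := Fr.card_le ht hk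
  rw [← Fr.omega_eq ht i]
  refine Subgroup.map_le_iff_le_comap.2 (Subgroup.map_le_iff_le_comap.2 ?_)
  refine CfsgLib.TensorSympPair.Data.commutator_le_of_roots (Fr.data ht i) (by omega) hb fun z w u hz hw hzw => ?_
  set D := Fr.data ht i
  show Fr.Φ i ((eich D.q (TensorMax.pl w u) (TensorMax.pl z u) : O D.q) : GL (Fin k × Fin (k ^ t)) F) ∈ M
  obtain ⟨x, hx, hxe⟩ := (hW.coef_smul (hW.coef_Tm hk ht hfull (rst z) (rst w)
    (by rw [← Fr.γ_eq ht i]; exact hzw)) Fr.c).2 u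
  have hx' : Fr.φ x ∈ M := hx
  convert hx' using 1
  refine Fr.Φ_eq i fun y v => ?_
  have hpol : polar D.q (TensorMax.pl w u) (TensorMax.pl z u) = 0 := by rw [D.polar_pl, D.β_self, zero_mul]
  have hA : rx i (slot i (Xm Fr.J u) * Fr.c • lft i (Tm (Jt Fr.J t) (rst z) (rst w))) =
      (Fr.c • Xm Fr.J u) ⊗ₖ Tm (Jt Fr.J t) (rst z) (rst w) := by
    rw [map_mul, map_smul, CfsgLib.TensorWreathMax.rx_slot_same, lft, AlgEquiv.apply_symm_apply, mul_smul_comm,
      ← mul_kronecker_mul, mul_one, one_mul, smul_kronecker]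
  rw [← CfsgLib.Orth.app_apply, app_eich (D.q_pl u w) hpol, D.q_pl, D.polar_pl, D.polar_pl, Fr.β_eq, hxe, add_mulVec,
    one_mulVec, map_add, LinearEquiv.symm_apply_apply, mulVec_Tv i hA, LinearEquiv.symm_apply_apply, Tm_mulVec,
    smul_mulVec, Xm_mulVec, fm_symm Fr.alt Fr.two v u]
  have hB : (((rst w ⬝ᵥ Jt Fr.J t *ᵥ rst y) • rst z + (rst z ⬝ᵥ Jt Fr.J t *ᵥ rst y) • rst w)) ∘
      finFunctionFinEquiv.symm = D.γ y w • z + D.γ y z • w := by
    rw [D.γ_flip w y, D.γ_flip z y, neg_self Fr.two, neg_self Fr.two, Fr.γ_eq ht i, Fr.γ_eq ht i]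
    funext a
    simp [rst]
  rw [hB, CfsgLib.TensorSympPair.pl_add_left, CfsgLib.TensorSympPair.pl_smul_left,
    CfsgLib.TensorSympPair.pl_smul_left, zero_mul, sub_zero, neg_smul, neg_self Fr.two, smul_smul, map_smul, map_smul]
  module

end Frame

end CfsgLib.TensorSympChar2
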