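import Cfsg.Agent.Lib.TensorSympChar2.Grow

/-!
In characteristic two the radical of a slot parabolic contains only scalar elements when the slot transvections have
only scalar coefficients.
-/

set_option autoImplicit false
set_option linter.unusedSectionVars false
set_option linter.unusedSimpArgs false

namespace CfsgLib.TensorSympChar2

open Matrix
open scoped Kronecker
open CfsgLib.Maximal.TensorPower
open CfsgLib.TensorWreathMax (Idx In Ms Gam rightHom pl ct ct_pl kronecker_mulVec_pl eq_sum_pl ext_pl pl_eq_zero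
  exists_dot_eq_one pl_smul_left pl_sub_left pl_add_left pm_eq_zero_of)
open CfsgLib.TensorSympWreath

attribute [-simp] Matrix.coe_units_inv

variable {F : Type*} [Field F] {m n : ℕ}

/-- An element of the radical with given coefficients on the perpendicular of the centre. -/
def Rx (J : Matrix (Fin m) (Fin m) F) (M : Subgroup (GL (Fin m × Idx m n) F)) (v : Fin m → F)
    (L : (Fin m → F) →ₗ[F] Matrix (Idx m n) (Idx m n) F) : Prop :=
  L v = 0 ∧ ∃ g ∈ M,
    (∀ z, ct (v ᵥ* J) ((g : Matrix (Fin m × Idx m n) (Fin m × Idx m n) F) *ᵥ z) = ct (v ᵥ* J) z) ∧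
    ∀ c u, fm J v c = 0 →
      (g : Matrix (Fin m × Idx m n) (Fin m × Idx m n) F) *ᵥ pl c u = pl c u + pl v (L c *ᵥ u)

namespace Rx

variable {J : Matrix (Fin m) (Fin m) F} {M : Subgroup (GL (Fin m × Idx m n) F)} {v : Fin m → F}
  {L L' : (Fin m → F) →ₗ[F] Matrix (Idx m n) (Idx m n) F}

theorem add (hJ : Alt J) (h : Rx J M v L) (h' : Rx J M v L') : Rx J M v (L + L') := by
  obtain ⟨hv, g, hg, hφ, hr⟩ := h
  obtain ⟨hv', k, hk, hψ, hs⟩ := h'
  refine ⟨by simp [hv, hv'], g * k, mul_mem hg hk, fun z => ?_, fun c u hvc => ?_⟩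
  · rw [Units.val_mul, ← mulVec_mulVec, hφ, hψ]
  · rw [Units.val_mul, ← mulVec_mulVec, hs c u hvc, mulVec_add, hr c u hvc, hr v _ (hJ.self v), hv, zero_mulVec,
      map_zero, add_zero, LinearMap.add_apply, add_mulVec, map_add]
    abel

/-- Conjugation by an isometry of the left factor fixing the centre. -/
theorem conj_left {K : Matrix (Idx m n) (Idx m n) F} (hS : SSet J K M) (h : Rx J M v L)
    {A A' : Matrix (Fin m) (Fin m) F} (hA : Iso J A) (hAA : A * A' = 1) (hAv : A *ᵥ v = v) :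
    Rx J M v (L ∘ₗ A'.mulVecLin) := by
  have hA'v : A' *ᵥ v = v := by
    conv_lhs => rw [← hAv, mulVec_mulVec, mul_eq_one_comm.1 hAA, one_mulVec]
  have hA' : Iso J A' := by
    have h1 : A'ᵀ * (Aᵀ * J * A) * A' = A'ᵀ * J * A' := by rw [show Aᵀ * J * A = J from hA]
    rw [Iso, ← h1]
    simp only [mul_assoc, hAA, mul_one]
    rw [← mul_assoc, ← transpose_mul, hAA, transpose_one, one_mul]
  have hrow : ∀ c, (c ᵥ* J) ᵥ* A' = (A *ᵥ c) ᵥ* J := fun c => iso_row hA' (mul_eq_one_comm.1 hAA) c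
  have hperp : ∀ c, fm J v c = 0 → fm J v (A' *ᵥ c) = 0 := fun c hc => by
    rw [fm_apply] at hc ⊢
    rw [dotProduct_mulVec, hrow, hAv]
    exact hc
  obtain ⟨hv, g, hg, hφ, hr⟩ := h
  obtain ⟨a, ha, haA⟩ := hS.isom A hA
  have ha' : ((a⁻¹ : GL (Fin m × Idx m n) F) : Matrix (Fin m × Idx m n) (Fin m × Idx m n) F) = A' ⊗ₖ 1 :=
    Units.inv_eq_of_mul_eq_one_right (by rw [haA, ← mul_kronecker_mul, hAA, one_mul, one_kronecker_one])
  refine ⟨by simp [hA'v, hv], a * g * a⁻¹, mul_mem (mul_mem ha hg) (inv_mem ha), fun z => ?_, fun c u hvc => ?_⟩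
  · rw [Units.val_mul, Units.val_mul, ha', haA, ← mulVec_mulVec, ← mulVec_mulVec, ct_kron_left, iso_row hA hAA, hA'v, hφ,
      ct_kron_left, hrow, hAv]
  · rw [Units.val_mul, Units.val_mul, ha', haA, ← mulVec_mulVec, ← mulVec_mulVec, kronecker_mulVec_pl, one_mulVec,
      hr _ u (hperp c hvc), mulVec_add, kronecker_mulVec_pl, kronecker_mulVec_pl, one_mulVec, one_mulVec, hAv,
      mulVec_mulVec, hAA, one_mulVec]
    rfl

/-- Conjugation by a right factor. -/
theorem conj_right {X X' : Matrix (Idx m n) (Idx m n) F} (h : Rx J M v L)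
    (hX : In M ((1 : Matrix (Fin m) (Fin m) F) ⊗ₖ X)) (hXX : X * X' = 1) :
    Rx J M v ((LinearMap.mulLeft F X ∘ₗ LinearMap.mulRight F X') ∘ₗ L) := by
  obtain ⟨hv, g, hg, hφ, hr⟩ := h
  obtain ⟨a, ha, haX⟩ := hX
  have ha' : ((a⁻¹ : GL (Fin m × Idx m n) F) : Matrix (Fin m × Idx m n) (Fin m × Idx m n) F) =
      (1 : Matrix (Fin m) (Fin m) F) ⊗ₖ X' :=
    Units.inv_eq_of_mul_eq_one_right (by rw [haX, ← mul_kronecker_mul, hXX, one_mul, one_kronecker_one])
  refine ⟨by simp [hv], a * g * a⁻¹, mul_mem (mul_mem ha hg) (inv_mem ha), fun z => ?_, fun c u hvc => ?_⟩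
  · rw [Units.val_mul, Units.val_mul, ha', haX, ← mulVec_mulVec, ← mulVec_mulVec, ct_kron_right, hφ, ct_kron_right,
      mulVec_mulVec, hXX, one_mulVec]
  · rw [Units.val_mul, Units.val_mul, ha', haX, ← mulVec_mulVec, ← mulVec_mulVec, kronecker_mulVec_pl, one_mulVec,
      hr _ _ hvc, mulVec_add, kronecker_mulVec_pl, kronecker_mulVec_pl, one_mulVec, one_mulVec, mulVec_mulVec, hXX,
      one_mulVec]
    simp [mulVec_mulVec, mul_assoc]

/-- With self-adjoint coefficients it is a radical element. -/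
theorem toRd (h2 : (2 : F) = 0) {K : Matrix (Idx m n) (Idx m n) F} (hS : SSet J K M) (h : Rx J M v L)
    (hsa : ∀ c, fm J v c = 0 → (L c)ᵀ * K = K * L c) : Rd J M v L := by
  obtain ⟨hv, g, hg, hφ, hr⟩ := h
  obtain ⟨Ku, hKu⟩ := hS.Kunit
  refine ⟨hv, g, hg, hφ, hr, fun c z hvc => ?_⟩
  have h1 := pair_radical (c := c) (D := L c) Ku hKu (η := (g : Matrix (Fin m × Idx m n) (Fin m × Idx m n) F) - 1)
    (by rw [add_sub_cancel]; exact hS.iso g hg) (fun z => by rw [sub_mulVec, one_mulVec, map_sub, hφ, sub_self])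
    (fun u => by rw [sub_mulVec, one_mulVec, hr c u hvc, add_sub_cancel_left]) z
  rw [mul_assoc _ (L c)ᵀ, hsa c hvc, ← mul_assoc, ← hKu, Units.inv_mul, one_mul, sub_mulVec, one_mulVec, map_sub,
    sub_eq_iff_eq_add', neg_self h2] at h1
  exact h1

end Rx

/-- Products of isotropic pairs are self-adjoint. -/
theorem pat_Am_adj {J : Matrix (Fin m) (Fin m) F} (hJ : Alt J) {N : ℕ} (S : Finset (Fin N))
    {a b : Fin N → Fin m → F} (hab : ∀ l ∈ S, IPair J (a l) (b l)) :
    (pat S fun l => Am J (a l) (b l))ᵀ * Jt J N = Jt J N * pat S fun l => Am J (a l) (b l) := by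
  rw [pat, pm_transpose, Jt, pm_mul, pm_mul]
  congr 1
  funext l
  by_cases hl : l ∈ S
  · simp only [ops, hl, if_true]
    rw [(kind_Am hJ (hab l hl).2.2 (Am_ne_zero hJ (hab l hl))).1.2.2.2, one_smul]
  · simp [ops, hl]

/-- Two products of pairs whose bracket is not scalar. -/
theorem exists_bracket_not_scalar {J : Matrix (Fin m) (Fin m) F} (hJ : Alt J) (h2 : (2 : F) = 0) (hm : 6 ≤ m) {N : ℕ}
    {S : Finset (Fin N)} (hne : S.Nonempty) :
    ∃ a b c d : Fin m → F, IPair J a b ∧ IPair J c d ∧ ∀ s : F,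
      (pat S fun _ => Am J a b) * (pat S fun _ => Am J c d) + (pat S fun _ => Am J c d) * (pat S fun _ => Am J a b) ≠
        s • 1 := by
  haveI : NeZero m := ⟨by omega⟩
  obtain ⟨a, ha⟩ : ∃ a : Fin m → F, a ≠ 0 := ⟨Pi.single ⟨0, by omega⟩ 1, by simp⟩
  obtain ⟨d, _, had, -⟩ := exists_step hJ h2 hm ha ha (hJ.self a)
  have hd : d ≠ 0 := fun h => had.2.1 0 (by rw [h, zero_smul])
  obtain ⟨b, c, hab, hcd, hac, hbd, hbc, -⟩ := exists_step hJ h2 hm ha hd had.2.2
  obtain ⟨e, hea, hed⟩ := exists_fm_eq hJ ha had.2.1 1 0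
  rw [← fm_symm hJ h2] at hea hed
  refine ⟨a, b, c, d, hab, hcd, fun s hs => ?_⟩
  have e1 : Am J a b * Am J c d = vecMulVec a (d ᵥ* J) := by
    simp [Am_eq h2, add_mul, mul_add, vv_mul, hbc, hbd, hac, had.2.2]
  have e2 : Am J c d * Am J a b = vecMulVec d (a ᵥ* J) := by
    simp [Am_eq h2, add_mul, mul_add, vv_mul, fm_symm hJ h2 a c, fm_symm hJ h2 b c, fm_symm hJ h2 a d,
      fm_symm hJ h2 b d, hbc, hbd, hac, had.2.2]
  rw [pat_mul, pat_mul] at hs
  simp only [e1, e2] at hs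
  obtain ⟨j, hj⟩ := hne
  have hz : ∀ os : Fin N → Matrix (Fin m) (Fin m) F, os j = 0 → pat S os = 0 := fun os h =>
    pm_eq_zero_of (j := j) (by simp [ops, hj, h])
  have hda : fm J d a = 0 := by rw [fm_symm hJ h2, had.2.2]
  have hss := congrArg (fun X => X * X) hs
  simp only [add_mul, mul_add, pat_mul, smul_mul_smul_comm, one_mul] at hss
  rw [hz _ (by simp [vv_mul, hda]), hz _ (by simp [vv_mul, hJ.self]), hz _ (by simp [vv_mul, hJ.self]),
    hz _ (by simp [vv_mul, had.2.2]), add_zero, add_zero, eq_comm, smul_eq_zero] at hss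
  rcases hss with hss | hss
  · rw [mul_self_eq_zero.1 hss, zero_smul] at hs
    have h := congrArg (fun X => (pat S fun _ => Xm J e) * X) hs
    simp only [mul_add, mul_zero, pat_mul] at h
    rw [hz (fun _ => Xm J e * vecMulVec d (a ᵥ* J)) (by simp [Xm, vv_mul, hed]), add_zero] at h
    refine pat_ne_zero (fun l _ => ?_) h
    rw [Xm, vv_mul, hea, one_smul, Ne, vecMulVec_eq_zero, not_or]
    exact ⟨fun h0 => one_ne_zero (hea.symm.trans (by rw [h0, map_zero, LinearMap.zero_apply])), hJ.vecMul_ne_zero hd⟩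
  · exact one_ne_zero hss

/-- A radical element of one direction has a scalar coefficient. -/
theorem rx_scalar {J : Matrix (Fin m) (Fin m) F} (hJ : Alt J) (h2 : (2 : F) = 0) (hm : 6 ≤ m)
    {M : Subgroup (GL (Idx m (n + 1 + 1)) F)} (hM : Setting J M) (hs : Scal J M) (i : Fin (n + 1 + 1))
    {v b : Fin m → F} (hv : v ≠ 0) (hvb : fm J v b = 0) (hind : ∀ a : F, b ≠ a • v)
    {D : Matrix (Idx m (n + 1)) (Idx m (n + 1)) F} (hD : Rx J (Ms i M) v ((fm J b).smulRight D)) :
    ∃ s : F, D = s • 1 := by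
  classical
  haveI : NeZero m := ⟨by omega⟩
  have hS := hM.sset hJ hs i
  obtain ⟨hG, -⟩ := hM.gam hJ hs i
  obtain ⟨b', hb'v, hb'⟩ := exists_fm_eq hJ hv hind 0 1
  by_contra hns
  push Not at hns
  set C : Matrix (Idx m (n + 1)) (Idx m (n + 1)) F → Prop := fun E => Rx J (Ms i M) v ((fm J b).smulRight E) with hC
  have hcls : Cls J Finset.univ C := by
    refine ⟨fun {Y Z} hY hZ => ?_, fun {Y l A A'} _ hA hAA hY => ?_⟩
    · have h := hY.add hJ hZ
      rwa [smulRight_add'] at h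
    · obtain ⟨g, hg, hgX⟩ := hG.slot_iso hJ hA l
      have h1 : In (Ms i M) ((1 : Matrix (Fin m) (Fin m) F) ⊗ₖ slot l A) :=
        ⟨rightHom m (Idx m (n + 1)) g, hg, by rw [← hgX]; rfl⟩
      convert hY.conj_right h1 (show slot l A * slot l A' = 1 by rw [slot_mul, hAA, slot_one]) using 1
      refine LinearMap.ext fun c => ?_
      simp [mul_assoc]
  obtain ⟨S, -, hne, hP⟩ := extract hcls hJ h2 hm (show C D from hD) (fun l hl => absurd (Finset.mem_univ l) hl) hns
  obtain ⟨p, r, x, y, hpr, hxy, hnot⟩ := exists_bracket_not_scalar hJ h2 hm hne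
  have hrd : ∀ (w : Fin m → F) {u u' : Fin m → F}, IPair J u u' →
      Rx J (Ms i M) v ((fm J w).smulRight (pat S fun _ => Am J u u')) →
        Rd J (Ms i M) v ((fm J w).smulRight (pat S fun _ => Am J u u')) := fun w {u u'} huu h =>
    h.toRd h2 hS fun c _ => by
      rw [LinearMap.smulRight_apply, transpose_smul, Matrix.smul_mul, Matrix.mul_smul,
        pat_Am_adj hJ S fun _ _ => huu]
  have hsw : Rx J (Ms i M) v ((fm J b').smulRight (pat S fun _ => Am J x y)) := by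
    set u := b + b' with hu
    have hA' : Iso J (1 + (1 : F) • Xm J u) := iso_root hJ u 1
    have hAv : (1 + (1 : F) • Xm J u) *ᵥ v = v := by
      rw [add_mulVec, one_mulVec, smul_mulVec, Xm_mulVec, hJ.flip v u, hu, map_add, hvb, hb'v, add_zero, neg_zero,
        zero_smul, smul_zero, add_zero]
    convert (hP _ _ fun _ _ => hxy : C _).conj_left hS hA' (root_mul hJ u 1) hAv using 1
    refine LinearMap.ext fun c => ?_
    rw [LinearMap.comp_apply, LinearMap.smulRight_apply, LinearMap.smulRight_apply, Matrix.mulVecLin_apply]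
    congr 1
    rw [add_mulVec, one_mulVec, smul_mulVec, Xm_mulVec, map_add, map_smul, map_smul, hu, map_add, LinearMap.add_apply,
      map_add, hJ.self, hb', smul_eq_mul, smul_eq_mul, zero_add, mul_one]
    linear_combination (fm J b' c) * h2
  obtain ⟨c, hc⟩ := Rd.anticomm hJ hS hv hvb hb'v (by rw [hb']; exact one_ne_zero)
    (hrd b hpr (hP _ _ fun _ _ => hpr)) (hrd b' hxy hsw)
  exact hnot c hc

/-- The radical is scalar at every splitting. -/
theorem radAll {J : Matrix (Fin m) (Fin m) F} (hJ : Alt J) (h2 : (2 : F) = 0) (hm : 6 ≤ m) : RadAll J := by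
  classical
  intro t M ht hM hs i v c₀ hv hvc₀ hind η hηv hηφ hηker hin
  obtain ⟨n, rfl⟩ : ∃ n, t = n + 1 := ⟨t - 1, by omega⟩
  haveI : NeZero m := ⟨by omega⟩
  have hS := hM.sset hJ hs i
  obtain ⟨Ku, hKu⟩ := hS.Kunit
  obtain ⟨g, hg, hgη⟩ := hin
  obtain ⟨f, hf⟩ := hJ.exists_pair hv
  obtain ⟨θ, hθ⟩ := exists_dot_eq_one hv
  let L : (Fin m → F) →ₗ[F] Matrix (Idx m (n + 1)) (Idx m (n + 1)) F :=
    { toFun := fun c => LinearMap.toMatrix' (ct θ ∘ₗ η.mulVecLin ∘ₗ pl c)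
      map_add' := fun c d => by
        rw [← map_add]; congr 1; refine LinearMap.ext fun u => ?_
        simp [pl_add_left, mulVec_add]
      map_smul' := fun a c => by
        rw [RingHom.id_apply, ← map_smul]; congr 1; refine LinearMap.ext fun u => ?_
        simp [pl_smul_left, mulVec_smul] }
  have hL : ∀ c u, fm J v c = 0 → η *ᵥ pl c u = pl v (L c *ᵥ u) := by
    intro c u hc
    obtain ⟨w, hw⟩ := hηker (pl c u) (by rw [ct_pl, ← fm_apply, hc, zero_smul])
    rw [hw]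
    congr 1
    show w = LinearMap.toMatrix' (ct θ ∘ₗ η.mulVecLin ∘ₗ pl c) *ᵥ u
    rw [LinearMap.toMatrix'_mulVec]
    simp [hw, ct_pl, hθ]
  have hLv : L v = 0 := Matrix.ext_of_mulVec_single fun x => by
    rw [zero_mulVec]
    refine pl_eq_zero hv ?_
    rw [← hL v _ (hJ.self v), hηv]
  have hRx : Rx J (Ms i M) v L := ⟨hLv, g, hg,
    fun z => by rw [hgη, add_mulVec, one_mulVec, map_add, hηφ, add_zero],
    fun c u hc => by rw [hgη, add_mulVec, one_mulVec, hL c u hc]⟩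
  let x₀ : Idx m (n + 1) := 0
  let ψ : (Fin m → F) →ₗ[F] F :=
    { toFun := fun c => L (c - fm J v c • f) x₀ x₀
      map_add' := fun c d => by
        rw [map_add, add_smul, show c + d - (fm J v c • f + fm J v d • f) = (c - fm J v c • f) + (d - fm J v d • f) by abel,
          map_add, Matrix.add_apply]
      map_smul' := fun a c => by
        rw [RingHom.id_apply, map_smul, smul_eq_mul, mul_smul, ← smul_sub, map_smul, Matrix.smul_apply] }
  -- the coefficients are scalars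
  have hψ : ∀ c, fm J v c = 0 → L c = ψ c • 1 := by
    intro c hc
    obtain ⟨s, hs'⟩ : ∃ s : F, L c = s • 1 := by
      by_cases hline : ∃ r : F, c = r • v
      · obtain ⟨r, rfl⟩ := hline
        exact ⟨0, by rw [map_smul, hLv, smul_zero, zero_smul]⟩
      push Not at hline
      have hA' := iso_root hJ c 1
      have hAv : (1 + (1 : F) • Xm J c) *ᵥ v = v := by
        rw [add_mulVec, one_mulVec, smul_mulVec, Xm_mulVec, hJ.flip v c, hc, neg_zero, zero_smul, smul_zero, add_zero]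
      have h1 := (hRx.conj_left hS hA' (root_mul hJ c 1) hAv).add hJ hRx
      have e : L ∘ₗ (1 + (-1 : F) • Xm J c).mulVecLin + L = (fm J c).smulRight (L c) := by
        refine LinearMap.ext fun x => ?_
        simp only [LinearMap.add_apply, LinearMap.comp_apply, Matrix.mulVecLin_apply, add_mulVec, one_mulVec,
          smul_mulVec, Xm_mulVec, map_add, map_smul, neg_smul, one_smul, map_neg, LinearMap.smulRight_apply,
          neg_self h2]
        rw [add_right_comm, add_self h2, zero_add]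
      rw [e] at h1
      exact rx_scalar hJ h2 hm hM hs i hv hc hline h1
    rw [hs']
    congr 1
    show s = L (c - fm J v c • f) x₀ x₀
    rw [hc, zero_smul, sub_zero, hs']
    simp
  obtain ⟨Ju, hJu⟩ := (Matrix.isUnit_iff_isUnit_det J).2 hJ.det.isUnit
  obtain ⟨c₁, hc₁⟩ : ∃ c₁, ∀ c, fm J c₁ c = ψ c := by
    refine ⟨(fun k => ψ (Pi.single k 1)) ᵥ* ((Ju⁻¹ : GL (Fin m) F) : Matrix (Fin m) (Fin m) F), fun c => ?_⟩
    rw [fm_apply, vecMul_vecMul, ← hJu, Units.inv_mul, vecMul_one]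
    conv_rhs => rw [pi_eq_sum_univ' c, map_sum]
    simp [dotProduct, mul_comm]
  have hψv : ψ v = 0 := by
    show L (v - fm J v v • f) x₀ x₀ = 0
    rw [hJ.self, zero_smul, sub_zero, hLv]; rfl
  have hvc₁ : fm J v c₁ = 0 := by rw [fm_symm hJ h2, hc₁, hψv]
  -- remove it
  obtain ⟨a, ha, haS⟩ := hS.isom _ (hJ.iso_srt (v := v) (c := c₁) hvc₁)
  rw [add_kronecker, one_kronecker_one] at haS
  have hSS : (Srt J v c₁ ⊗ₖ (1 : Matrix (Idx m (n + 1)) (Idx m (n + 1)) F)) *
      (Srt J v c₁ ⊗ₖ (1 : Matrix (Idx m (n + 1)) (Idx m (n + 1)) F)) = 0 := Matrix.ext_of_mulVec_single fun x => by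
    rw [← mulVec_mulVec, Srt_kron_mulVec, Srt_kron_mulVec, zero_mulVec]
    simp [map_add, ct_pl, ← fm_apply, hvc₁, hJ.self, show fm J c₁ v = 0 by rw [hJ.flip v c₁, hvc₁, neg_zero]]
  have haz : ∀ z, (a : Matrix (Fin m × Idx m (n + 1)) (Fin m × Idx m (n + 1)) F) *ᵥ z =
      z + (pl c₁ (ct (v ᵥ* J) z) + pl v (ct (c₁ ᵥ* J) z)) := fun z => by
    rw [haS, add_mulVec, one_mulVec, Srt_kron_mulVec]
  set k := g * a with hkdef
  have hk : k ∈ Ms i M := mul_mem hg ha
  have hkφ : ∀ z, ct (v ᵥ* J) ((k : Matrix (Fin m × Idx m (n + 1)) (Fin m × Idx m (n + 1)) F) *ᵥ z) = ct (v ᵥ* J) z := by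
    intro z
    rw [hkdef, Units.val_mul, ← mulVec_mulVec, hgη, add_mulVec, one_mulVec, map_add, hηφ, add_zero, haz, map_add,
      map_add, ct_pl, ct_pl, ← fm_apply, ← fm_apply, hvc₁, hJ.self, zero_smul, zero_smul, add_zero, add_zero]
  have hkr : ∀ c u, fm J v c = 0 → (k : Matrix (Fin m × Idx m (n + 1)) (Fin m × Idx m (n + 1)) F) *ᵥ pl c u = pl c u := by
    intro c u hc
    rw [hkdef, Units.val_mul, ← mulVec_mulVec, haz, ct_pl, ct_pl, ← fm_apply, ← fm_apply, hc, zero_smul, map_zero,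
      zero_add, hgη, add_mulVec, one_mulVec, mulVec_add, hL c u hc, hηv, add_zero, hc₁, hψ c hc, smul_mulVec,
      one_mulVec, add_assoc, add_self h2, add_zero]
  have hkc : ∀ c z, fm J v c = 0 →
      ct (c ᵥ* J) ((k : Matrix (Fin m × Idx m (n + 1)) (Fin m × Idx m (n + 1)) F) *ᵥ z) = ct (c ᵥ* J) z := by
    intro c z hc
    have h1 := pair_radical (c := c) (D := (0 : Matrix (Idx m (n + 1)) (Idx m (n + 1)) F)) Ku hKu
      (η := (k : Matrix (Fin m × Idx m (n + 1)) (Fin m × Idx m (n + 1)) F) - 1)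
      (by rw [add_sub_cancel]; exact hS.iso k hk) (fun z => by rw [sub_mulVec, one_mulVec, map_sub, hkφ, sub_self])
      (fun u => by rw [sub_mulVec, one_mulVec, hkr c u hc, sub_self, zero_mulVec, map_zero]) z
    rwa [transpose_zero, mul_zero, zero_mul, zero_mulVec, neg_zero, sub_mulVec, one_mulVec, map_sub, sub_eq_zero] at h1
  let E := LinearMap.toMatrix' (ct (-(f ᵥ* J)) ∘ₗ
    (((k : Matrix (Fin m × Idx m (n + 1)) (Fin m × Idx m (n + 1)) F) - 1).mulVecLin ∘ₗ pl f))
  have hkE : (k : Matrix (Fin m × Idx m (n + 1)) (Fin m × Idx m (n + 1)) F) = 1 + Xm J v ⊗ₖ E := by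
    refine ext_pl fun c u => ?_
    have hc : fm J v (c - fm J v c • f) = 0 := by rw [map_sub, map_smul, hf, smul_eq_mul, mul_one, sub_self]
    have hperp : ∀ d, fm J v d = 0 →
        ct (d ᵥ* J) ((k : Matrix (Fin m × Idx m (n + 1)) (Fin m × Idx m (n + 1)) F) *ᵥ pl f u - pl f u) = 0 := fun d hd => by
      rw [map_sub, hkc d _ hd, sub_self]
    have hkf := eq_pl_of_perp hJ hf hperp
    rw [sub_eq_iff_eq_add'] at hkf
    have hEu : E *ᵥ u = ct (-(f ᵥ* J)) ((k : Matrix (Fin m × Idx m (n + 1)) (Fin m × Idx m (n + 1)) F) *ᵥ pl f u - pl f u) := by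
      rw [LinearMap.toMatrix'_mulVec]
      simp [sub_mulVec]
    conv_lhs => rw [← sub_add_cancel c (fm J v c • f), pl_add_left, mulVec_add, hkr _ u hc,
      pl_smul_left, mulVec_smul, hkf, ← hEu, pl_sub_left, pl_smul_left, smul_add]
    rw [add_mulVec, one_mulVec, Xm, kron_vecMulVec_mulVec, ct_pl, ← fm_apply, mulVec_smul, map_smul]
    abel
  obtain ⟨e, he⟩ := hS.scal v hv E ⟨k, hk, hkE⟩
  refine ⟨c₁, e, hvc₁, ?_⟩
  rw [hkdef, Units.val_mul, hgη, haS, he, kronecker_smul, ← smul_kronecker] at hkE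
  set S₁ := Srt J v c₁ ⊗ₖ (1 : Matrix (Idx m (n + 1)) (Idx m (n + 1)) F)
  set X₁ := (e • Xm J v) ⊗ₖ (1 : Matrix (Idx m (n + 1)) (Idx m (n + 1)) F)
  have hXS : X₁ * S₁ = 0 := Matrix.ext_of_mulVec_single fun x => by
    rw [← mulVec_mulVec, Srt_kron_mulVec, zero_mulVec]
    simp [X₁, smul_kronecker, smul_mulVec, Xm, kron_vecMulVec_mulVec, map_add, ct_pl, ← fm_apply, hvc₁, hJ.self]
  rw [add_kronecker]
  have h1 := congrArg (· * (1 + S₁)) hkE
  simp only [mul_assoc] at h1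
  rw [show (1 + S₁) * (1 + S₁) = 1 by
      rw [add_mul, one_mul, mul_add, mul_one, hSS, add_zero, add_assoc, add_self h2, add_zero],
    mul_one, add_mul, one_mul, mul_add, mul_one, hXS, add_zero, add_assoc, add_right_inj] at h1
  exact h1

/-- The radical settles the final step. -/
theorem finAll {J : Matrix (Fin m) (Fin m) F} (hJ : Alt J) (h2 : (2 : F) = 0) (hm : 6 ≤ m) : FinAll J := by
  classical
  intro t M ht hM hs i v hv Y hY
  haveI : NeZero m := ⟨by omega⟩
  have hS := hM.sset hJ hs i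
  obtain ⟨w, hvw, -, -, hw'⟩ := exists_perp_not_mem (J := J) hm v v v v v
  have hw : ∀ r : F, w ≠ r • v := fun r hr => hw' r 0 (by rw [hr, zero_smul, add_zero])
  obtain ⟨u, hvu, hwu, -, hu⟩ := exists_perp_not_mem (J := J) hm v w w v w
  have huv : fm J u v = 0 := by rw [fm_symm hJ h2, hvu]
  have huw : fm J u w = 0 := by rw [fm_symm hJ h2, hwu]
  have hwv : fm J w v = 0 := by rw [fm_symm hJ h2, hvw]
  have hX0 : ∀ {a b}, fm J a b = 0 → Xm J a * Xm J b = 0 := fun {a b} h => by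
    rw [Xm, Xm, vecMulVec_mul_vecMulVec, ← fm_apply, h, zero_smul, vecMulVec_zero]
  have hneg : ∀ R : Matrix (Fin m × Idx m t) (Fin m × Idx m t) F, 1 - R = 1 + R := fun R => by
    rw [sub_eq_add_neg, neg_self h2]
  -- the first pair
  have hQ : In (Ms i M) (1 + (Xm J v + Xm J w) ⊗ₖ Y) := by
    obtain ⟨A, hAv, hA, -⟩ := hJ.exists_move hv (w := w) (fun h => hw 0 (by rw [h, zero_smul]))
    have hA' : Iso J ((A⁻¹ : GL (Fin m) F) : Matrix (Fin m) (Fin m) F) := by
      rw [Iso]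
      conv_lhs => rw [← show _ * J * _ = J from hA]
      simp only [mul_assoc, Units.mul_inv, mul_one]
      rw [← mul_assoc, ← transpose_mul, Units.mul_inv, transpose_one, one_mul]
    convert (hY _ hA).mul (hS.isom _ hA') using 1
    rw [hneg, mul_assoc (1 + Xm J v ⊗ₖ Y), mul_assoc (1 + Xm J v ⊗ₖ Y),
      show ((A : Matrix (Fin m) (Fin m) F) ⊗ₖ (1 : Matrix (Idx m t) (Idx m t) F)) * (1 + Xm J v ⊗ₖ Y) *
        (((A⁻¹ : GL (Fin m) F) : Matrix (Fin m) (Fin m) F) ⊗ₖ (1 : Matrix (Idx m t) (Idx m t) F)) = 1 + Xm J w ⊗ₖ Y by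
        rw [mul_add, mul_one, add_mul, ← mul_kronecker_mul, ← mul_kronecker_mul, ← mul_kronecker_mul, Units.mul_inv,
          hJ.conj_Xm' one_ne_zero (show _ = (1 : F) • J from hA.trans (one_smul F J).symm), hAv]
        simp]
    rw [add_mul, one_mul, mul_add, mul_one, ← mul_kronecker_mul, hX0 hvw, zero_kronecker, add_zero, add_kronecker]
    abel
  -- the moved pair
  have hQ' : In (Ms i M) (1 + (Xm J (u + v) + Xm J (u + w)) ⊗ₖ Y) := by
    obtain ⟨B, hBv, hBw, hB⟩ := hJ.exists_move_pair hv hw hvw (c := u + v) (d := u + w)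
      (fun h => hu 1 0 (by
        rw [one_smul, zero_smul, add_zero, eq_neg_of_add_eq_zero_left h, neg_self h2]))
      (fun r hr => by
        rcases eq_or_ne r 1 with rfl | hr1
        · rw [one_smul, add_right_inj] at hr
          exact hw 1 (by rw [hr, one_smul])
        · refine hu ((1 - r)⁻¹ * r) (-(1 - r)⁻¹) ?_
          rw [neg_smul, mul_smul, ← sub_eq_add_neg, ← smul_sub, eq_inv_smul_iff₀ (sub_ne_zero.2 (Ne.symm hr1))]
          linear_combination (norm := module) hr)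
      (by simp [map_add, hJ.self, huv, huw, hvu, hvw])
    obtain ⟨b, hb, hbe⟩ := hS.isom _ hB
    have hbi : ((b⁻¹ : GL (Fin m × Idx m t) F) : Matrix (Fin m × Idx m t) (Fin m × Idx m t) F) =
        ((B⁻¹ : GL (Fin m) F) : Matrix (Fin m) (Fin m) F) ⊗ₖ 1 :=
      Units.inv_eq_of_mul_eq_one_right (by
        rw [hbe, ← mul_kronecker_mul, Units.mul_inv, one_mul, one_kronecker_one])
    have hc := fun x => hJ.conj_Xm' one_ne_zero (show _ = (1 : F) • J from hB.trans (one_smul F J).symm) x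
    convert In.conj hb hQ using 2
    rw [hbe, hbi, ← mul_kronecker_mul, ← mul_kronecker_mul, one_mul, mul_one, mul_add, add_mul, hc v, hc w, hBv, hBw,
      inv_one, one_smul, one_smul]
  have h1 := In.add (by
    rw [← mul_kronecker_mul]
    simp only [add_mul, mul_add]
    rw [hX0 (show fm J v (u + v) = 0 by simp [map_add, hJ.self, hvu]),
      hX0 (show fm J v (u + w) = 0 by simp [map_add, hvu, hvw]),
      hX0 (show fm J w (u + v) = 0 by simp [map_add, hwu, hwv]),
      hX0 (show fm J w (u + w) = 0 by simp [map_add, hJ.self, hwu]), add_zero, add_zero, zero_kronecker]) hQ hQ'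
  set a := v + w with ha_def
  have hsum : (Xm J v + Xm J w) + (Xm J (u + v) + Xm J (u + w)) = Srt J u a := by
    simp only [Srt, Xm, ha_def, add_vecMul, vecMulVec_add, add_vecMulVec]
    have z := fun x : Matrix (Fin m) (Fin m) F => add_self h2 x
    linear_combination (norm := abel) z (vecMulVec u (u ᵥ* J)) + z (vecMulVec v (v ᵥ* J)) + z (vecMulVec w (w ᵥ* J))
  rw [← add_kronecker, hsum] at h1
  have hua : fm J u a = 0 := by rw [ha_def, map_add, huv, huw, add_zero]
  have hau : fm J a u = 0 := by rw [fm_symm hJ h2, hua]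
  have hu0 : u ≠ 0 := fun h => hu 0 0 (by rw [h, zero_smul, zero_smul, add_zero])
  have hai : ∀ r : F, a ≠ r • u := fun r hr => by
    rcases eq_or_ne r 0 with rfl | hr0
    · rw [zero_smul, ha_def] at hr
      exact hw (-1) (by rw [neg_one_smul]; exact eq_neg_of_add_eq_zero_right hr)
    · exact hu r⁻¹ r⁻¹ (by rw [← smul_add, ← ha_def, hr, inv_smul_smul₀ hr0])
  have hSv : ∀ z, (Srt J u a ⊗ₖ Y) *ᵥ z = pl a (Y *ᵥ ct (u ᵥ* J) z) + pl u (Y *ᵥ ct (a ᵥ* J) z) := fun z => by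
    rw [Srt, add_kronecker, add_mulVec, kron_vecMulVec_mulVec, kron_vecMulVec_mulVec]
  obtain ⟨c, r, hc, hcr⟩ := radAll hJ h2 hm t M ht hM hs i u a hu0 hua hai _ (fun z => by
      rw [hSv, ct_pl, ct_pl, ← fm_apply, ← fm_apply, hJ.self, hau, zero_smul, mulVec_zero, map_zero, map_zero,
        zero_add])
    (fun z => by rw [hSv, map_add, ct_pl, ct_pl, ← fm_apply, ← fm_apply, hua, hJ.self, zero_smul, zero_smul, zero_add])
    (fun z hz => ⟨Y *ᵥ ct (a ᵥ* J) z, by rw [hSv, hz, mulVec_zero, map_zero, zero_add]⟩) h1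
  obtain ⟨f, hf⟩ := hJ.exists_pair hu0
  obtain ⟨θ, hθu, hθa⟩ := CfsgLib.TensorWreathMax.exists_perp_eq_one (x := u) (y := a) hai
  refine ⟨θ ⬝ᵥ ((Srt J u c + r • Xm J u) *ᵥ f), Matrix.ext_of_mulVec_single fun x => ?_⟩
  have h5 := congrArg (fun X => ct θ (X *ᵥ pl f (Pi.single x 1))) hcr
  rw [hSv, map_add, ct_pl, ct_pl, kronecker_mulVec_pl, one_mulVec, ct_pl, ct_pl, ← fm_apply, ← fm_apply, hf, one_smul,
    ct_pl, hθu, hθa, zero_smul, one_smul, add_zero] at h5
  rw [smul_mulVec, one_mulVec]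
  exact h5

end CfsgLib.TensorSympChar2
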