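import Cfsg.Agent.Lib.UnitWreathMax.Involution
import Cfsg.Agent.Lib.TensorSympEven.Frame
import Cfsg.Agent.Lib.TensorSympChar2.Radical
import Cfsg.Agent.Lib.TensorSympChar2.Root

/-!
Axes, perpendiculars, and the largest meeting of an axis with a moved axis, in characteristic two.
-/

set_option autoImplicit false
set_option linter.unusedSectionVars false
set_option linter.unusedSimpArgs false

namespace CfsgLib.TensorSympChar2

open Matrix Module
open scoped Kronecker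
open CfsgLib.Maximal.TensorPower
open CfsgLib.TensorWreathMax (Idx split rx In tvec rx_mulVec_tvec rx_slot_same pl ct ct_pl kronecker_mulVec_pl)
open CfsgLib.TensorSympWreath
open CfsgLib.UnitWreathMax (ax mem_ax ax_pl finrank_ax tvec_slot slot_vm_mem_ax mp mem_mp mulVec_mem_mp finrank_mp
  mp_inf mp_mp mp_inv_mp)
open CfsgLib.GeomClasses (gl_mulVec_inv_mulVec gl_inv_mulVec_mulVec gl_mulVec_injective)

attribute [-simp] Matrix.coe_units_inv

variable {F : Type*} [Field F] {k t : ℕ} {J : Matrix (Fin k) (Fin k) F}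

/-- The form on the tensor power. -/
abbrev bf (J : Matrix (Fin k) (Fin k) F) (t : ℕ) : LinearMap.BilinForm F (Idx k t → F) := Matrix.toBilin' (Jt J t)

/-- The perpendicular in the tensor power. -/
abbrev pp (J : Matrix (Fin k) (Fin k) F) {t : ℕ} (W : Submodule F (Idx k t → F)) : Submodule F (Idx k t → F) :=
  (bf J t).orthogonal W

theorem mem_pp {W : Submodule F (Idx k t → F)} {v : Idx k t → F} : v ∈ pp J W ↔ ∀ w ∈ W, bf J t w v = 0 :=
  Iff.rfl

section form

variable (hJ : Alt J) (h2 : (2 : F) = 0)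
include hJ h2

theorem bf_symm (x y : Idx k t → F) : bf J t x y = bf J t y x := by
  rw [Matrix.toBilin'_apply', Matrix.toBilin'_apply', dotProduct_mulVec, ← mulVec_transpose, Jt_symm hJ h2,
    dotProduct_comm]

theorem bf_refl : (bf J t).IsRefl := fun x y h => by rw [bf_symm hJ h2, h]

omit h2 in
theorem bf_nondeg : (bf J t).Nondegenerate :=
  LinearMap.BilinForm.nondegenerate_toBilin'_iff_det_ne_zero.2
    ((Matrix.isUnit_iff_isUnit_det _).1 (Jt_isUnit hJ)).ne_zero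

theorem pp_pp (W : Submodule F (Idx k t → F)) : pp J (pp J W) = W :=
  LinearMap.BilinForm.orthogonal_orthogonal (bf_nondeg hJ) (bf_refl hJ h2) W

omit hJ h2 in
theorem pp_anti {U W : Submodule F (Idx k t → F)} (h : U ≤ W) : pp J W ≤ pp J U :=
  LinearMap.BilinForm.orthogonal_le h

theorem le_pp_comm {U W : Submodule F (Idx k t → F)} (h : U ≤ pp J W) : W ≤ pp J U :=
  (pp_pp hJ h2 W).ge.trans (pp_anti h)

omit hJ h2 in
theorem pp_sup (U W : Submodule F (Idx k t → F)) : pp J (U ⊔ W) = pp J U ⊓ pp J W := by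
  refine le_antisymm (le_inf (pp_anti le_sup_left) (pp_anti le_sup_right)) fun v hv => mem_pp.2 fun w hw => ?_
  obtain ⟨u, hu, w, hw', rfl⟩ := Submodule.mem_sup.1 hw
  rw [map_add, LinearMap.add_apply, mem_pp.1 hv.1 u hu, mem_pp.1 hv.2 w hw', add_zero]

theorem pp_inf (U W : Submodule F (Idx k t → F)) : pp J (U ⊓ W) = pp J U ⊔ pp J W := by
  rw [← pp_pp hJ h2 (pp J U ⊔ pp J W), pp_sup, pp_pp hJ h2, pp_pp hJ h2]

omit h2 in
theorem finrank_pp (W : Submodule F (Idx k t → F)) : finrank F (pp J W) + finrank F W = k ^ t := by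
  rw [LinearMap.BilinForm.finrank_orthogonal (bf_nondeg hJ), Nat.sub_add_cancel (Submodule.finrank_le W)]
  simp

omit hJ h2 in
theorem bf_iso {g : GL (Idx k t) F} (hg : Iso (Jt J t) (g : Matrix (Idx k t) (Idx k t) F)) (x y : Idx k t → F) :
    bf J t ((g : Matrix (Idx k t) (Idx k t) F) *ᵥ x) ((g : Matrix (Idx k t) (Idx k t) F) *ᵥ y) = bf J t x y := by
  rw [Matrix.toBilin'_apply', Matrix.toBilin'_apply', ← vecMul_transpose, ← dotProduct_mulVec, mulVec_mulVec,
    mulVec_mulVec, show _ = Jt J t from hg]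

theorem pp_mp {g : GL (Idx k t) F} (hg : Iso (Jt J t) (g : Matrix (Idx k t) (Idx k t) F))
    (W : Submodule F (Idx k t → F)) : pp J (mp g W) = mp g (pp J W) := by
  have hiso := bf_iso hg
  ext v
  rw [mem_pp, mem_mp, mem_pp]
  refine ⟨fun h w hw => ?_, ?_⟩
  · have h1 := h _ (mulVec_mem_mp (g := g) hw)
    rwa [← gl_mulVec_inv_mulVec g v, hiso] at h1
  · rintro h _ ⟨w, hw, rfl⟩
    rw [Matrix.mulVecLin_apply, ← gl_mulVec_inv_mulVec g v, hiso, h w hw]

theorem mem_pp_ax {i : Fin (t + 1)} {a : Fin k → F} (ha : a ≠ 0) {v : Idx k (t + 1) → F} :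
    v ∈ pp J (ax i a) ↔ slot i (Xm J a) *ᵥ v = 0 := by
  rw [mem_pp, Xm, CfsgLib.TensorWreathMax.slot_mulVec_eq_zero ha]
  have key : ∀ w u, tvec i w = pl a u → bf J (t + 1) w v = u ⬝ᵥ Jt J t *ᵥ ct (a ᵥ* J) (tvec i v) := fun w u hu => by
    rw [Matrix.toBilin'_apply', ← TensorSympEven.dot_tvec i, ← rx_mulVec_tvec, rx_Jt, hu, pair_pl]
  refine ⟨fun h => ?_, fun h w hw => ?_⟩
  · refine (bf_nondeg (t := t) hJ).2 _ fun u => ?_
    rw [Matrix.toBilin'_apply', ← key _ u (LinearEquiv.apply_symm_apply _ _)]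
    exact h _ (ax_pl i a u)
  · obtain ⟨u, hu⟩ := mem_ax.1 hw
    rw [key w u hu, h, mulVec_zero, dotProduct_zero]

theorem le_pp_ax (i : Fin (t + 1)) {c e : Fin k → F} (h : fm J c e = 0) : ax i c ≤ pp J (ax i e) := by
  intro v hv
  rcases eq_or_ne e 0 with rfl | he
  · refine mem_pp.2 fun w hw => ?_
    obtain ⟨u, hu⟩ := mem_ax.1 hw
    rw [show w = 0 from (tvec i).injective (by rw [hu, map_zero]; ext; simp [pl]), map_zero, LinearMap.zero_apply]
  obtain ⟨u, hu⟩ := mem_ax.1 hv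
  rw [mem_pp_ax hJ h2 he, Xm, CfsgLib.TensorWreathMax.slot_mulVec_eq_zero he, hu, ct_pl, ← fm_apply,
    fm_symm hJ h2 c e, h, zero_smul]

end form

/-- The setting of rigidity in characteristic two. -/
structure Ctx (J : Matrix (Fin k) (Fin k) F) (M : Subgroup (GL (Idx k (t + 1)) F)) : Prop where
  ht : 1 ≤ t
  alt : Alt J
  two : (2 : F) = 0
  hk : 6 ≤ k
  IH : Rigid J t
  setting : Setting J M
  scal : Scal J M

namespace Ctx

variable [Fintype F] {M : Subgroup (GL (Idx k (t + 1)) F)} (C : Ctx J M)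
include C

theorem mono_of_maps {g : GL (Idx k (t + 1)) F} (hgs : Sim (Jt J (t + 1)) (g : Matrix (Idx k (t + 1)) (Idx k (t + 1)) F))
    (hg : Conj J M g) {i j : Fin (t + 1)} {a b : Fin k → F} (ha : a ≠ 0) (hb : b ≠ 0)
    (h : ∀ u, (g : Matrix (Idx k (t + 1)) (Idx k (t + 1)) F) *ᵥ (slot j (Xm J b) *ᵥ u) ∈ ax i a) : IsMonomial g := by
  refine centre_map C.alt (by have := C.hk; omega) (finAll C.alt C.two C.hk) (radAll C.alt C.two C.hk) C.ht C.IH
    C.setting C.scal hgs hg (i := i) (j := j) ha hb fun u => ?_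
  obtain ⟨x, hx⟩ := mem_ax.1 (h u)
  obtain ⟨f, hf⟩ := C.alt.exists_pair ha
  refine ⟨(tvec i).symm (pl f x), (tvec i).injective ?_⟩
  rw [hx, tvec_slot, LinearEquiv.apply_symm_apply, kronecker_mulVec_pl, Matrix.one_mulVec, Xm_mulVec, hf, one_smul]

/-- A similitude which is not monomial conjugates every root element to one which is not monomial. -/
theorem exists_not_mon {g : GL (Idx k (t + 1)) F}
    (hgs : Sim (Jt J (t + 1)) (g : Matrix (Idx k (t + 1)) (Idx k (t + 1)) F)) (hg : Conj J M g)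
    (hng : ¬ IsMonomial g) (j : Fin (t + 1)) {b : Fin k → F} (hb : b ≠ 0) :
    ∃ z ∈ M, (z : Matrix (Idx k (t + 1)) (Idx k (t + 1)) F) = 1 + (g : Matrix _ _ F) * slot j (Xm J b) *
      ((g⁻¹ : GL (Idx k (t + 1)) F) : Matrix _ _ F) ∧ ¬ IsMonomial z := by
  classical
  obtain ⟨z, hz, hze⟩ := hg j b 1
  rw [one_smul] at hze
  refine ⟨z, hz, hze, fun hzm => hng ?_⟩
  obtain ⟨π, as, hπ⟩ := hzm
  have hk := C.hk
  set P := (g : Matrix _ _ F) * slot j (Xm J b) * ((g⁻¹ : GL (Idx k (t + 1)) F) : Matrix _ _ F) with hP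
  have hPP : P * P = 0 := by
    rw [hP]
    simp only [mul_assoc, Units.inv_mul_cancel_left]
    rw [← mul_assoc (slot j (Xm J b)), slot_mul, C.alt.Xm_mul_self, map_zero, zero_mul, mul_zero]
  have hN : ((z : Matrix (Idx k (t + 1)) (Idx k (t + 1)) F) - 1) * ((z : Matrix _ _ F) - 1) = 0 := by
    rw [hze, add_sub_cancel_left, hPP]
  have hr : ((z : Matrix (Idx k (t + 1)) (Idx k (t + 1)) F) - 1).rank = k ^ t := by
    rw [hze, add_sub_cancel_left, hP, CfsgLib.TensorWreathMax.rank_conj, rank_root C.alt hb]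
  rcases CfsgLib.TensorWreathMax.Mon.classify (by omega) hπ hN hr with ⟨l, a, φ, ha, -, -, he⟩ | hsw
  · rw [hze, add_right_inj] at he
    refine C.mono_of_maps hgs hg (i := l) (j := j) ha hb fun u => ?_
    have h1 : (g : Matrix (Idx k (t + 1)) (Idx k (t + 1)) F) * slot j (Xm J b) =
        slot l (vecMulVec a φ) * (g : Matrix _ _ F) := by
      rw [← he, hP]; simp only [mul_assoc, Units.inv_mul, mul_one]
    rw [Matrix.mulVec_mulVec, h1, ← Matrix.mulVec_mulVec]
    exact slot_vm_mem_ax _ _ _ _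
  · exfalso
    have h3 := CfsgLib.UnitWreathMax.swap_rank (by omega) hπ hsw (by
      rw [hze, add_mul, one_mul, mul_add, mul_one, hPP, add_zero, add_assoc, add_self C.two, add_zero])
    rw [hr] at h3
    have h4 : 3 * k ^ t ≤ (k - 1) * k ^ t := Nat.mul_le_mul_right _ (by omega)
    have : 0 < k ^ t := pow_pos (by omega) t
    omega

theorem conj_mem {g : GL (Idx k (t + 1)) F} (hg : g ∈ M) :
    Sim (Jt J (t + 1)) (g : Matrix (Idx k (t + 1)) (Idx k (t + 1)) F) ∧ Conj J M g :=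
  ⟨(C.setting.iso g hg).sim, Conj.of_mem C.setting hg⟩

/-- An element of the group mapping an axis into the perpendicular of an axis is monomial. -/
theorem mono_of_perp {g : GL (Idx k (t + 1)) F} (hg : g ∈ M) {i j : Fin (t + 1)} {a b : Fin k → F} (ha : a ≠ 0)
    (hb : b ≠ 0) (h : mp g (ax j b) ≤ pp J (ax i a)) : IsMonomial g := by
  by_contra hng
  obtain ⟨z, hz, hze, hnz⟩ := C.exists_not_mon (C.conj_mem hg).1 (C.conj_mem hg).2 hng j hb
  refine hnz (C.mono_of_maps (C.conj_mem hz).1 (C.conj_mem hz).2 (i := i) (j := i) ha ha fun u => ?_)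
  set v := slot i (Xm J a) *ᵥ u with hv
  have hvax : v ∈ ax i a := slot_vm_mem_ax i a _ u
  have h1 : v ∈ mp g (pp J (ax j b)) := by
    rw [← pp_mp C.alt C.two (C.setting.iso g hg)]
    exact le_pp_comm C.alt C.two h hvax
  rw [mem_mp] at h1
  rwa [hze, Matrix.add_mulVec, Matrix.one_mulVec, ← Matrix.mulVec_mulVec, ← Matrix.mulVec_mulVec,
    (mem_pp_ax C.alt C.two hb).1 h1, Matrix.mulVec_zero, add_zero]

end Ctx

/-- An axis and a moved axis with the largest meeting. -/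
structure Wit [Fintype F] (J : Matrix (Fin k) (Fin k) F) (M : Subgroup (GL (Idx k (t + 1)) F)) (d : ℕ)
    (g : GL (Idx k (t + 1)) F) (i j : Fin (t + 1)) (a b : Fin k → F) : Prop where
  ctx : Ctx J M
  max : ∀ g ∈ M, ¬ IsMonomial g → ∀ (i j : Fin (t + 1)) (a b : Fin k → F), a ≠ 0 → b ≠ 0 →
    finrank F ↥(ax i a ⊓ mp g (ax j b)) ≤ d
  mem : g ∈ M
  nmono : ¬ IsMonomial g
  ha : a ≠ 0
  hb : b ≠ 0
  hd : finrank F ↥(ax i a ⊓ mp g (ax j b)) = d

namespace Wit

variable [Fintype F] {M : Subgroup (GL (Idx k (t + 1)) F)} {d : ℕ} {g : GL (Idx k (t + 1)) F} {i j : Fin (t + 1)}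
  {a b : Fin k → F} (W : Wit J M d g i j a b)
include W

theorem inf_pp_le {x : GL (Idx k (t + 1)) F} (hx : x ∈ M) (hnx : ¬ IsMonomial x) {l p : Fin (t + 1)}
    {c e : Fin k → F} (hc : c ≠ 0) (he : e ≠ 0) : finrank F ↥(mp x (ax p e) ⊓ pp J (ax l c)) ≤ d := by
  have C := W.ctx
  obtain ⟨z, hz, hze, hnz⟩ := C.exists_not_mon (C.conj_mem (M.inv_mem hx)).1 (C.conj_mem (M.inv_mem hx)).2
    (fun h => hnx (by simpa using CfsgLib.TensorWreathMax.isMonomial_inv h)) l hc
  have hle : mp x⁻¹ (mp x (ax p e) ⊓ pp J (ax l c)) ≤ ax p e ⊓ mp z (ax p e) := by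
    rintro _ ⟨v, ⟨hv1, hv2⟩, rfl⟩
    rw [Matrix.mulVecLin_apply]
    have h1 := mem_mp.1 hv1
    refine ⟨h1, ?_⟩
    have h2 : (z : Matrix (Idx k (t + 1)) (Idx k (t + 1)) F) *ᵥ
        (((x⁻¹ : GL (Idx k (t + 1)) F) : Matrix (Idx k (t + 1)) (Idx k (t + 1)) F) *ᵥ v) =
        ((x⁻¹ : GL (Idx k (t + 1)) F) : Matrix (Idx k (t + 1)) (Idx k (t + 1)) F) *ᵥ v := by
      rw [hze, Matrix.add_mulVec, Matrix.one_mulVec, ← Matrix.mulVec_mulVec, inv_inv, gl_mulVec_inv_mulVec,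
        ← Matrix.mulVec_mulVec, (mem_pp_ax C.alt C.two hc).1 hv2, Matrix.mulVec_zero, add_zero]
    rw [← h2]
    exact mulVec_mem_mp h1
  have h3 := (Submodule.finrank_mono hle).trans (W.max z hz hnz p p e e he he)
  rwa [finrank_mp] at h3

theorem inf_pp_left : mp g (ax j b) ⊓ pp J (ax i a) = ax i a ⊓ mp g (ax j b) := by
  refine (Submodule.eq_of_le_of_finrank_le
    (le_inf inf_le_right (inf_le_left.trans (le_pp_ax W.ctx.alt W.ctx.two i (W.ctx.alt.self a)))) ?_).symm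
  rw [W.hd]
  exact W.inf_pp_le W.mem W.nmono W.ha W.hb

theorem inf_pp_moved_le {c : Fin k → F} (hc : c ≠ 0) : finrank F ↥(ax i c ⊓ pp J (mp g (ax j b))) ≤ d := by
  have h := W.inf_pp_le (M.inv_mem W.mem)
    (fun h => W.nmono (by simpa using CfsgLib.TensorWreathMax.isMonomial_inv h)) (l := j) (p := i) W.hb hc
  rwa [← finrank_mp g, mp_inf, mp_inv_mp, ← pp_mp W.ctx.alt W.ctx.two (W.ctx.setting.iso g W.mem)] at h

end Wit

end CfsgLib.TensorSympChar2
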