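import Cfsg.Agent.Lib.TensorSympChar2.Extract

/-!
Products of isotropic pairs as coefficients grow by one slot with a permutation of three slots.
-/

set_option autoImplicit false
set_option linter.unusedSectionVars false
set_option linter.unusedSimpArgs false

namespace CfsgLib.TensorSympChar2

open Matrix
open scoped Kronecker
open CfsgLib.Maximal.TensorPower
open CfsgLib.TensorWreathMax (Idx In permM permM_conj_pm permM_mul_self pm_eq_zero_of)
open CfsgLib.TensorSympWreath

attribute [-simp] Matrix.coe_units_inv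

variable {F : Type*} [Field F] {m N : ℕ} {J : Matrix (Fin m) (Fin m) F}

/-- The product of two rank one operators. -/
theorem vv_mul (J : Matrix (Fin m) (Fin m) F) (u v w z : Fin m → F) :
    vecMulVec u (v ᵥ* J) * vecMulVec w (z ᵥ* J) = fm J v w • vecMulVec u (z ᵥ* J) := by
  rw [vecMulVec_mul_vecMulVec, vecMulVec_smul, fm_apply]

namespace Ev

variable {M : Subgroup (GL (Idx m N) F)} (hW : Ev J M) {i : Fin N}
include hW

theorem cls (i : Fin N) : Cls J (Finset.univ.erase i) (Coef J M i) :=
  ⟨fun hY hZ => hW.coef_add hY hZ, fun hl hA hAA hY => hW.coef_slot_conj hY (Finset.ne_of_mem_erase hl) hA hAA⟩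

/-- A non-scalar coefficient gives products of pairs. -/
theorem exists_patAll (hm : 6 ≤ m) {Y₀ : Matrix (Idx m N) (Idx m N) F} (hY₀ : Coef J M i Y₀)
    (hns : ∀ c : F, Y₀ ≠ c • 1) : ∃ S : Finset (Fin N), i ∉ S ∧ S.Nonempty ∧ PatAll J (Coef J M i) S := by
  haveI : NeZero m := ⟨by omega⟩
  obtain ⟨S, hS, hne, h⟩ := extract (hW.cls i) hW.alt hW.two hm hY₀ (fun l hl => by
    rw [Finset.mem_erase, not_and', not_not] at hl
    rw [hl (Finset.mem_univ l)]
    exact hY₀.1) hns
  exact ⟨S, fun hi => Finset.notMem_erase i _ (hS hi), hne, h⟩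

/-- One more slot. -/
theorem grow (hm : 6 ≤ m)
    (hperm : ∀ a b c d : Fin N, a ≠ b → c ≠ d → In M (permM (Equiv.swap a b) * permM (Equiv.swap c d)))
    {S : Finset (Fin N)} (hiS : i ∉ S) {j : Fin N} (hj : j ∈ S) {x : Fin N} (hx : x ∉ S) (hxi : x ≠ i)
    (hP : PatAll J (Coef J M i) S) : PatAll J (Coef J M i) (insert x S) := by
  classical
  have hJ := hW.alt
  have h2 := hW.two
  obtain ⟨p, hp⟩ : ∃ p : Fin m → F, p ≠ 0 := ⟨Pi.single ⟨0, by omega⟩ 1, by simp⟩
  obtain ⟨d, _, hpd, -⟩ := exists_step hJ h2 hm hp hp (hJ.self p)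
  have hd : d ≠ 0 := fun h => hpd.2.1 0 (by rw [h, zero_smul])
  obtain ⟨b, c, hpb, hcd, hpc, hbd, hbc, hcp⟩ := exists_step hJ h2 hm hp hd hpd.2.2
  have hij : i ≠ j := fun h => hiS (h ▸ hj)
  have hxj : x ≠ j := fun h => hx (h ▸ hj)
  set A := Am J p b with hA
  set A' := Am J c d with hA'
  set o1 : Fin N → Matrix (Fin m) (Fin m) F := fun l =>
    if l = x then A' else if l = j then vecMulVec p (c ᵥ* J) else vecMulVec p (d ᵥ* J) with ho1
  set o2 : Fin N → Matrix (Fin m) (Fin m) F := fun l =>
    if l = x then A' else if l = j then vecMulVec c (p ᵥ* J) else vecMulVec d (p ᵥ* J) with ho2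
  -- the two elements
  set f : Fin N → Matrix (Fin m) (Fin m) F := fun l => if l = i then Xm J p else if l ∈ S then A else 1 with hf
  set f₂ : Fin N → Matrix (Fin m) (Fin m) F := fun l => if l = i then Xm J c else if l ∈ S then A' else 1 with hf₂
  set r : Fin N → Matrix (Fin m) (Fin m) F :=
    fun l => if l = j then Xm J c else if l ∈ insert x S then A' else 1 with hr
  have hslot : ∀ (v : Fin m → F) (B : Matrix (Fin m) (Fin m) F), slot i (Xm J v) * pat S (fun _ => B) =
      pm fun l => if l = i then Xm J v else if l ∈ S then B else 1 := fun v B => by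
    rw [pat, slot_apply, pm_mul]
    congr 1
    funext l
    rcases eq_or_ne l i with rfl | hl
    · simp [ops, hiS]
    · simp [ops, hl]
  have hfM : In M (1 + pm f) := by
    have h := (hP (fun _ => p) (fun _ => b) fun _ _ => hpb).2 p
    rwa [hslot] at h
  have hrM : In M (1 + pm r) := by
    have h := (hP (fun _ => c) (fun _ => d) fun _ _ => hcd).2 c
    rw [hslot] at h
    obtain ⟨g, hg, hge⟩ := hperm i j j x hij (Ne.symm hxj)
    have hgi : ((g⁻¹ : GL (Idx m N) F) : Matrix (Idx m N) (Idx m N) F) =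
        permM (Equiv.swap j x) * permM (Equiv.swap i j) := Units.inv_eq_of_mul_eq_one_right (by
      rw [hge, mul_assoc, ← mul_assoc (permM (Equiv.swap j x)), permM_mul_self (Equiv.swap_mul_self j x), one_mul,
        permM_mul_self (Equiv.swap_mul_self i j)])
    convert In.conj hg h using 2
    rw [hge, hgi, show permM (Equiv.swap i j) * permM (Equiv.swap j x) * pm f₂ *
        (permM (Equiv.swap j x) * permM (Equiv.swap i j)) = (permM (Equiv.swap i j) *
          (permM (Equiv.swap j x) * pm f₂ * permM (Equiv.swap j x)) * permM (Equiv.swap i j) :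
            Matrix (Idx m N) (Idx m N) F) by simp only [mul_assoc],
      permM_conj_pm (Equiv.swap_mul_self j x), permM_conj_pm (Equiv.swap_mul_self i j)]
    congr 1
    funext l
    simp only [hr, hf₂]
    rcases eq_or_ne l i with rfl | hli
    · rw [Equiv.swap_apply_left, Equiv.swap_apply_left]
      simp [hij, hxi, hx, hiS, Ne.symm hxi]
    rcases eq_or_ne l j with rfl | hlj
    · rw [Equiv.swap_apply_right, Equiv.swap_apply_of_ne_of_ne hij (Ne.symm hxi)]
      simp
    rw [Equiv.swap_apply_of_ne_of_ne hli hlj]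
    rcases eq_or_ne l x with rfl | hlx
    · rw [Equiv.swap_apply_right]
      simp [hxj, hj, Ne.symm hij]
    · rw [Equiv.swap_apply_of_ne_of_ne hlj hlx]
      simp [hli, hlj, hlx]
  have hAA' : A * A' = vecMulVec p (d ᵥ* J) := by
    rw [hA, hA', Am_eq h2, Am_eq h2]
    simp [add_mul, mul_add, vv_mul, hbc, hbd, hpc, hpd.2.2]
  have hA'A : A' * A = vecMulVec d (p ᵥ* J) := by
    rw [hA, hA', Am_eq h2, Am_eq h2]
    simp [add_mul, mul_add, vv_mul, fm_symm hJ h2 p c, fm_symm hJ h2 b c, fm_symm hJ h2 p d, fm_symm hJ h2 b d, hbc,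
      hbd, hpc, hpd.2.2]
  have hAX : A * Xm J c = vecMulVec p (c ᵥ* J) := by
    rw [hA, Am_eq h2, Xm]
    simp [add_mul, vv_mul, hbc, hpc]
  have hXA : Xm J c * A = vecMulVec c (p ᵥ* J) := by
    rw [hA, Am_eq h2, Xm]
    simp [mul_add, vv_mul, fm_symm hJ h2 p c, fm_symm hJ h2 b c, hbc, hpc]
  have hff : pm f * pm f = 0 := by
    rw [pm_mul]; exact pm_eq_zero_of (j := i) (by simp [hf, hJ.Xm_mul_self])
  have hrr : pm r * pm r = 0 := by
    rw [pm_mul]
    exact pm_eq_zero_of (j := x) (by simp [hr, hxj, hA', (kind_Am hJ hcd.2.2 (Am_ne_zero hJ hcd)).1.2.1])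
  have hfrf : pm f * pm r * pm f = 0 := by
    rw [pm_mul, pm_mul]
    exact pm_eq_zero_of (j := i) (by simp [hf, hr, hij, hiS, Ne.symm hxi, hJ.Xm_mul_self])
  have hrfr : pm r * pm f * pm r = 0 := by
    rw [pm_mul, pm_mul]
    exact pm_eq_zero_of (j := x) (by
      simp [hf, hr, hxj, hxi, hx, hA', (kind_Am hJ hcd.2.2 (Am_ne_zero hJ hcd)).1.2.1])
  have hbr := in_comm hfM hrM
    (by rw [sub_mul, hfrf, mul_assoc (pm r), hff, mul_zero, sub_zero])
    (by rw [sub_mul, hrfr, mul_assoc (pm f), hrr, mul_zero, sub_zero])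
  have hfr : ∀ (u v : Matrix (Fin m) (Fin m) F) (o : Fin N → Matrix (Fin m) (Fin m) F) (q : Fin N → Matrix (Fin m) (Fin m) F),
      q i = Xm J p → (∀ l, l ≠ i → q l = if l ∈ insert x S then o l else 1) →
        pm q = slot i (Xm J p) * pat (insert x S) o := by
    intro u v o q hqi hq
    rw [pat, slot_apply, pm_mul]
    congr 1
    funext l
    rcases eq_or_ne l i with rfl | hl
    · simp [ops, hqi, hiS, Ne.symm hxi]
    · simp [ops, hq l hl, hl]
  have e1 : pm f * pm r = slot i (Xm J p) * pat (insert x S) o1 := by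
    rw [pm_mul]
    refine hfr A A' o1 _ (by simp [hf, hr, hij, hiS, Ne.symm hxi]) fun l hl => ?_
    rcases eq_or_ne l j with rfl | hlj
    · simp [hf, hr, hl, hj, ho1, Ne.symm hxj, hAX]
    rcases eq_or_ne l x with rfl | hlx
    · simp [hf, hr, hl, hlj, hx, ho1]
    · by_cases hlS : l ∈ S <;> simp [hf, hr, hl, hlj, hlx, hlS, ho1, hAA']
  have e2 : pm r * pm f = slot i (Xm J p) * pat (insert x S) o2 := by
    rw [pm_mul]
    refine hfr A A' o2 _ (by simp [hf, hr, hij, hiS, Ne.symm hxi]) fun l hl => ?_
    rcases eq_or_ne l j with rfl | hlj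
    · simp [hf, hr, hl, hj, ho2, Ne.symm hxj, hXA]
    rcases eq_or_ne l x with rfl | hlx
    · simp [hf, hr, hl, hlj, hx, ho2]
    · by_cases hlS : l ∈ S <;> simp [hf, hr, hl, hlj, hlx, hlS, ho2, hA'A]
  rw [sub_eq_add_neg, neg_self h2, e1, e2, ← mul_add] at hbr
  have hiS' : i ∉ insert x S := by simp [hiS, Ne.symm hxi]
  have hY := hW.coef_of_one hp (fun Z => by
    rw [add_mul, mul_add, pat_comm_slot hiS', pat_comm_slot hiS']) hbr
  obtain ⟨e, g, heg, hpe, hde, hpg, hdg⟩ := exists_four hJ hm hp (r := d) hpd.2.1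
  have key : ∀ T : Finset (Fin N), T ⊆ S.erase j →
      Coef J M i (pat (insert x S) (fun l => if l ∈ T then Am J e g else o1 l) +
        pat (insert x S) (fun l => if l ∈ T then Am J e g else o2 l)) := by
    intro T
    induction T using Finset.induction_on with
    | empty => intro _; simpa using hY
    | insert l T hlT ih =>
      intro hT
      rw [Finset.insert_subset_iff] at hT
      obtain ⟨hl, hT⟩ := hT
      have hlS : l ∈ insert x S := Finset.mem_insert_of_mem (Finset.mem_of_mem_erase hl)
      have hli : l ≠ i := fun h => hiS' (h ▸ hlS)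
      have hlj : l ≠ j := Finset.ne_of_mem_erase hl
      have hlx : l ≠ x := fun h => hx (h ▸ Finset.mem_of_mem_erase hl)
      have h := (hW.cls i).pair hJ h2 (ih hT) (l := l) (by simp [hli]) heg.2.2
      simp only [mul_add, add_mul, sandwich_pat hlS, hlT, if_false] at h
      convert h using 1
      rw [add_add_add_comm, pat_update_add hlS, pat_update_add hlS]
      congr 1 <;>
      · refine pat_congr fun y _ => ?_
        rcases eq_or_ne y l with rfl | hy
        · rw [Function.update_self]
          simp only [Finset.mem_insert_self, if_true, ho1, ho2, hlx, hlj, if_false, Xm_mul_mul, Am_eq h2,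
            vecMulVec_mulVec, op_smul_eq_smul, ← fm_apply, map_smul, smul_eq_mul, fm_symm hJ h2 d, fm_symm hJ h2 p,
            hpe, hde, hpg, hdg, mul_one, one_smul]
        · simp [hy]
  have h := key _ subset_rfl
  set o : Fin N → Matrix (Fin m) (Fin m) F := fun l => if l = x then A' else Am J e g
  have hjS : j ∈ insert x S := Finset.mem_insert_of_mem hj
  rw [pat_congr (os' := Function.update o j (vecMulVec p (c ᵥ* J))) fun l hl => ?_,
    pat_congr (os := fun l => if l ∈ S.erase j then Am J e g else o2 l)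
      (os' := Function.update o j (vecMulVec c (p ᵥ* J))) fun l hl => ?_, pat_update_add hjS, ← Am_eq h2] at h
  · refine (hW.cls i).patAll hJ (fun l hl => ?_) (a := fun l => if l = j then p else if l = x then c else e)
      (b := fun l => if l = j then c else if l = x then d else g) (fun l _ => ?_) ?_
    · simp only [Finset.mem_erase, Finset.mem_univ, and_true]
      exact fun h => hiS' (h ▸ hl)
    · by_cases hlj : l = j
      · simp only [hlj, if_true]; exact ⟨hp, hcp, hpc⟩
      by_cases hlx : l = x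
      · simp only [hlx, hxj, if_false, if_true]; exact hcd
      · simp only [hlj, hlx, if_false]; exact heg
    · convert h using 1
      refine pat_congr fun l _ => ?_
      rcases eq_or_ne l j with rfl | hlj
      · simp
      rcases eq_or_ne l x with rfl | hlx
      · simp [o, hlj, hA']
      · simp [o, hlj, hlx]
  all_goals
    rcases eq_or_ne l j with rfl | hlj
    · simp [ho1, ho2, Ne.symm hxj]
    rcases eq_or_ne l x with rfl | hlx
    · simp [ho1, ho2, o, hlj, hx]
    · simp only [Finset.mem_insert, hlx, false_or] at hl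
      simp [o, hlj, hlx, hl]

/-- All slots but one. -/
theorem pat_full (hm : 6 ≤ m)
    (hperm : ∀ a b c d : Fin N, a ≠ b → c ≠ d → In M (permM (Equiv.swap a b) * permM (Equiv.swap c d)))
    {S : Finset (Fin N)} (hiS : i ∉ S) (hne : S.Nonempty) (hP : PatAll J (Coef J M i) S) :
    PatAll J (Coef J M i) (Finset.univ.erase i) := by
  classical
  obtain ⟨j, hj⟩ := hne
  have key : ∀ T : Finset (Fin N), i ∉ T → PatAll J (Coef J M i) (S ∪ T) := by
    intro T
    induction T using Finset.induction_on with
    | empty => intro _; simpa using hP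
    | insert x T hxT ih =>
      intro hiT
      rw [Finset.mem_insert, not_or] at hiT
      rw [Finset.union_insert]
      by_cases hx : x ∈ S ∪ T
      · rw [Finset.insert_eq_self.2 hx]; exact ih hiT.2
      · exact hW.grow hm hperm (by simp [hiS, hiT.2]) (Finset.mem_union_left T hj) hx (Ne.symm hiT.1) (ih hiT.2)
  have h := key (Finset.univ.erase i) (Finset.notMem_erase _ _)
  rwa [Finset.union_eq_right.2 fun l hl => Finset.mem_erase.2 ⟨fun e => hiS (by subst e; exact hl), Finset.mem_univ _⟩] at h

end Ev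

end CfsgLib.TensorSympChar2
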