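import Cfsg.Agent.Lib.TensorSympChar2.Geometry

/-!
In characteristic two a product of two orthogonal root elements and a conjugate root element generate a dihedral
group whose centre gives a monomial element; this excludes the pair.
-/

set_option autoImplicit false
set_option linter.unusedSectionVars false
set_option linter.unusedSimpArgs false

namespace CfsgLib.TensorSympChar2

open Matrix Module
open scoped Kronecker
open CfsgLib.GeomClasses
open CfsgLib.Maximal.TensorPower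
open CfsgLib.TensorWreathMax (In Idx split rx Ms pl ct ct_pl nm nm_mulVec tvec tvec_tp rx_mulVec_tvec rx_slot_same
  kronecker_mulVec_pl pl_sub_left pl_smul_left pl_add_left pl_eq_zero Mon)
open CfsgLib.TensorSympWreath
open CfsgLib.UnitWreathMax (ax mem_ax ax_pl finrank_ax tvec_slot slot_vm_mem_ax mp mem_mp mulVec_mem_mp finrank_mp
  mp_inf mp_inv_mp exists_central_involution mem_sup_ax eq_comb_of_mem ax_le_sup tp_ne_zero)

attribute [-simp] Matrix.coe_units_inv

variable {F : Type*} [Field F] [Fintype F] {k t : ℕ} {J : Matrix (Fin k) (Fin k) F}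
  {M : Subgroup (GL (Idx k (t + 1)) F)} {d : ℕ} {g : GL (Idx k (t + 1)) F} {i j : Fin (t + 1)} {a b : Fin k → F}

set_option maxHeartbeats 1600000 in
/-- There is no such pair. -/
theorem Wit.contra (W : Wit J M d g i j a b) : False := by
  classical
  have C₀ := W.ctx
  have hk := C₀.hk
  haveI : NeZero k := ⟨by omega⟩
  have hJ := C₀.alt
  have h2 := C₀.two
  have hr : 0 < k ^ t := pow_pos (by omega) t
  obtain ⟨a', haa', -, -, hn⟩ := exists_perp_not_mem (J := J) hk a a a a 0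
  have ha'a : fm J a' a = 0 := by rw [fm_symm hJ h2, haa']
  have hind : ∀ c : F, a' ≠ c • a := fun c hc => hn c 0 (by simp [hc])
  have ha'0 : a' ≠ 0 := fun h => hind 0 (by rw [h, zero_smul])
  have hind' : ∀ c : F, a ≠ c • a' := fun c hc => by
    rcases eq_or_ne c 0 with rfl | hc0
    · exact W.ha (by rw [hc, zero_smul])
    · exact hind c⁻¹ (by rw [hc, smul_smul, inv_mul_cancel₀ hc0, one_smul])
  set AU := ax i a ⊔ ax i a' with hAU
  have hperpA : ∀ α β : F, AU ≤ pp J (ax i (α • a + β • a')) := fun α β =>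
    sup_le
      (le_pp_ax hJ h2 i (by simp [hJ.self, haa']))
      (le_pp_ax hJ h2 i (by simp [hJ.self, ha'a]))
  have hAUpp : AU ≤ pp J AU := by
    rw [hAU, pp_sup]
    refine le_inf ?_ ?_
    · have := hperpA 1 0
      rwa [one_smul, zero_smul, add_zero] at this
    · have := hperpA 0 1
      rwa [one_smul, zero_smul, zero_add] at this
  have hAdim : finrank F AU = 2 * k ^ t := by
    have e := Submodule.finrank_sup_add_finrank_inf_eq (ax i a) (ax i a')
    have hdis : ax i a ⊓ ax i a' = ⊥ := (Submodule.eq_bot_iff _).2 fun v ⟨hv, hv'⟩ => by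
      obtain ⟨u, hu⟩ := mem_ax.1 hv
      obtain ⟨u', hu'⟩ := mem_ax.1 hv'
      obtain ⟨ψ, hψa, hψa'⟩ := CfsgLib.TensorWreathMax.exists_perp_eq_one hind
      have h1 := congrArg (ct ψ) (hu.symm.trans hu')
      rw [ct_pl, ct_pl, hψa, hψa', zero_smul, one_smul] at h1
      exact (tvec i).injective (by rw [hu', ← h1, map_zero, map_zero])
    rw [hdis, finrank_bot, finrank_ax i W.ha, finrank_ax i ha'0] at e
    rw [hAU]
    omega
  -- the two involutions
  obtain ⟨x₁, hx₁, hx₁e⟩ := C₀.setting.root i a 1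
  obtain ⟨x₂, hx₂, hx₂e⟩ := C₀.setting.root i a' 1
  rw [one_smul] at hx₁e hx₂e
  set jj := x₁ * x₂ with hjj
  set Q := Xm J a + Xm J a'
  have hXX : ∀ c e, fm J c e = 0 → Xm J c * Xm J e = 0 := fun c e h => Matrix.ext_of_mulVec_single fun q => by
    rw [← mulVec_mulVec, Xm_mulVec, Xm_mulVec, map_smul, h, smul_zero, zero_smul, zero_mulVec]
  have hje : (jj : Matrix (Idx k (t + 1)) (Idx k (t + 1)) F) = 1 + slot i Q := by
    rw [hjj, Units.val_mul, hx₁e, hx₂e, map_add, add_mul, one_mul, mul_add, mul_one, slot_mul, hXX _ _ haa', map_zero,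
      add_zero]
    abel
  have hQQ : Q * Q = 0 := by
    simp [Q, add_mul, mul_add, hJ.Xm_mul_self, hXX _ _ haa', hXX _ _ ha'a]
  have hsq : ∀ {z : GL (Idx k (t + 1)) F} {X : Matrix (Idx k (t + 1)) (Idx k (t + 1)) F},
      (z : Matrix (Idx k (t + 1)) (Idx k (t + 1)) F) = 1 + X → X * X = 0 → z * z = 1 := by
    intro z X hz hX
    refine Units.ext ?_
    rw [Units.val_mul, hz, add_mul, one_mul, mul_add, mul_one, hX, add_zero, add_assoc, add_self h2, add_zero,
      Units.val_one]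
  have hj2 : jj * jj = 1 := hsq hje (by rw [slot_mul, hQQ, map_zero])
  have hjfix : ∀ v ∈ pp J AU, (jj : Matrix (Idx k (t + 1)) (Idx k (t + 1)) F) *ᵥ v = v := by
    intro v hv
    rw [hAU, pp_sup] at hv
    rw [hje, Matrix.add_mulVec, Matrix.one_mulVec, map_add, Matrix.add_mulVec,
      (mem_pp_ax hJ h2 W.ha).1 hv.1, (mem_pp_ax hJ h2 ha'0).1 hv.2, add_zero, add_zero]
  obtain ⟨c₁, hc₁a, hc₁a'⟩ := exists_fm_eq hJ W.ha hind 1 0
  obtain ⟨c₂, hc₂a, hc₂a'⟩ := exists_fm_eq hJ W.ha hind 0 1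
  have hrange : LinearMap.range (slot i Q : Matrix (Idx k (t + 1)) (Idx k (t + 1)) F).mulVecLin = AU := by
    refine le_antisymm ?_ (sup_le ?_ ?_)
    · rintro _ ⟨v, rfl⟩
      rw [Matrix.mulVecLin_apply, map_add, Matrix.add_mulVec]
      exact add_mem (Submodule.mem_sup_left (slot_vm_mem_ax i a _ v)) (Submodule.mem_sup_right (slot_vm_mem_ax i a' _ v))
    · intro v hv
      obtain ⟨u, hu⟩ := mem_ax.1 hv
      refine ⟨(tvec i).symm (pl c₁ u), (tvec i).injective ?_⟩
      rw [Matrix.mulVecLin_apply, tvec_slot, LinearEquiv.apply_symm_apply, kronecker_mulVec_pl, Matrix.one_mulVec,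
        Matrix.add_mulVec, Xm_mulVec, Xm_mulVec, hc₁a, hc₁a', one_smul, zero_smul, add_zero, hu]
    · intro v hv
      obtain ⟨u, hu⟩ := mem_ax.1 hv
      refine ⟨(tvec i).symm (pl c₂ u), (tvec i).injective ?_⟩
      rw [Matrix.mulVecLin_apply, tvec_slot, LinearEquiv.apply_symm_apply, kronecker_mulVec_pl, Matrix.one_mulVec,
        Matrix.add_mulVec, Xm_mulVec, Xm_mulVec, hc₂a, hc₂a', one_smul, zero_smul, zero_add, hu]
  obtain ⟨y, hy, hye, hny⟩ := C₀.exists_not_mon (C₀.conj_mem W.mem).1 (C₀.conj_mem W.mem).2 W.nmono j W.hb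
  set Y := (g : Matrix (Idx k (t + 1)) (Idx k (t + 1)) F) * slot j (Xm J b) *
    ((g⁻¹ : GL (Idx k (t + 1)) F) : Matrix (Idx k (t + 1)) (Idx k (t + 1)) F) with hY
  have hy2 : y * y = 1 := hsq hye (by
    rw [hY, show ∀ G X G' : Matrix (Idx k (t + 1)) (Idx k (t + 1)) F, G * X * G' * (G * X * G') =
        G * (X * (G' * G) * X) * G' from fun G X G' => by simp only [mul_assoc], Units.inv_mul, mul_one,
      slot_mul, hJ.Xm_mul_self, map_zero, mul_zero, zero_mul])
  have hyfix : ∀ v ∈ pp J (mp g (ax j b)), (y : Matrix (Idx k (t + 1)) (Idx k (t + 1)) F) *ᵥ v = v := by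
    intro v hv
    rw [pp_mp hJ h2 (C₀.setting.iso g W.mem)] at hv
    rw [hye, hY, Matrix.add_mulVec, Matrix.one_mulVec, ← Matrix.mulVec_mulVec, ← Matrix.mulVec_mulVec,
      (mem_pp_ax hJ h2 W.hb).1 (mem_mp.1 hv), Matrix.mulVec_zero, add_zero]
  have hnc : ∀ c : GL (Idx k (t + 1)) F, c * jj * c⁻¹ ≠ y := by
    intro c hc
    have h1 : (c : Matrix (Idx k (t + 1)) (Idx k (t + 1)) F) * slot i Q *
        ((c⁻¹ : GL (Idx k (t + 1)) F) : Matrix (Idx k (t + 1)) (Idx k (t + 1)) F) = Y := by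
      have h := congrArg (fun z : GL (Idx k (t + 1)) F => (z : Matrix (Idx k (t + 1)) (Idx k (t + 1)) F)) hc
      simp only [Units.val_mul, hje, hye, mul_add, mul_one, add_mul, Units.mul_inv] at h
      exact add_left_cancel h
    have h3 := congrArg Matrix.rank h1
    rw [CfsgLib.TensorWreathMax.rank_conj, hY, CfsgLib.TensorWreathMax.rank_conj, rank_root hJ W.hb] at h3
    have h4 : (slot i Q : Matrix (Idx k (t + 1)) (Idx k (t + 1)) F).rank = 2 * k ^ t := by
      rw [Matrix.rank, hrange, hAdim]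
    omega
  haveI : Finite (GL (Idx k (t + 1)) F) := inferInstance
  obtain ⟨n, hn1, hn2, hjn, hyn⟩ := exists_central_involution hj2 hy2 hnc
  set ii := (jj * y) ^ n with hii
  have hiiM : ii ∈ M := M.pow_mem (M.mul_mem (M.mul_mem hx₁ hx₂) hy) n
  have hiifix : ∀ v ∈ pp J (AU ⊔ mp g (ax j b)), (ii : Matrix (Idx k (t + 1)) (Idx k (t + 1)) F) *ᵥ v = v := by
    intro v hv
    have h1 : ((jj * y : GL (Idx k (t + 1)) F) : Matrix (Idx k (t + 1)) (Idx k (t + 1)) F) *ᵥ v = v := by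
      rw [gl_mul_mulVec, hyfix v (pp_anti le_sup_right hv), hjfix v (pp_anti le_sup_left hv)]
    rw [hii]
    clear hn1 hn2 hjn hyn hiiM hii ii
    induction n with
    | zero => rw [pow_zero, Units.val_one, Matrix.one_mulVec]
    | succ n ihn => rw [pow_succ, gl_mul_mulVec, h1, ihn]
  have hiiAU : ∀ v ∈ AU, (ii : Matrix (Idx k (t + 1)) (Idx k (t + 1)) F) *ᵥ v ∈ AU := by
    intro v hv
    rw [← hrange] at hv ⊢
    obtain ⟨w, rfl⟩ := hv
    refine ⟨(ii : Matrix (Idx k (t + 1)) (Idx k (t + 1)) F) *ᵥ w, ?_⟩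
    have h1 := congrArg (fun z : GL (Idx k (t + 1)) F => (z : Matrix (Idx k (t + 1)) (Idx k (t + 1)) F) *ᵥ w) hjn
    simp only [gl_mul_mulVec, hje, Matrix.add_mulVec, Matrix.one_mulVec, Matrix.mulVec_add, add_right_inj] at h1
    exact h1
  obtain ⟨π, as, hmon⟩ : IsMonomial ii := C₀.mono_of_perp (i := i) (j := i) hiiM
    W.ha W.ha (by
      rintro _ ⟨v, hv, rfl⟩
      simpa using (show AU ≤ pp J (ax i ((1 : F) • a + (0 : F) • a')) from hperpA 1 0)
        (hiiAU v (Submodule.mem_sup_left hv)))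
  have hπ : π i = i := by
    by_contra hne
    obtain ⟨z, -, -, -, hz⟩ := exists_perp_not_mem (J := J) hk a a a a a'
    set xs : Fin (t + 1) → Fin k → F := Function.update (fun _ => a) (π i)
      (((as i)⁻¹ : GL (Fin k) F) *ᵥ z : Fin k → F) with hxs
    have hz0 : z ≠ 0 := fun h => hz 0 0 (by simp [h])
    have hxs0 : ∀ q, xs q ≠ 0 := fun q => by
      rcases eq_or_ne q (π i) with rfl | hq
      · simpa [xs] using gl_mulVec_ne_zero (as i)⁻¹ hz0
      · simpa [xs, hq] using W.ha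
    have hin : tp xs ∈ AU := Submodule.mem_sup_left (mem_ax.2 ⟨tp (i.removeNth xs), by
      rw [tvec_tp]; simp [xs, Ne.symm hne]⟩)
    have h1 := hiiAU _ hin
    rw [hmon] at h1
    obtain ⟨α, β, he⟩ := eq_comb_of_mem
      (tp_ne_zero fun q => gl_mulVec_ne_zero (as (i.succAbove q)) (hxs0 _)) h1 (by rw [tvec_tp]; rfl)
    simp only [xs, Function.update_self, gl_mulVec_inv_mulVec] at he
    exact hz α β he
  -- the involution is a tensor at the slot
  set C := rx i (ii : Matrix (Idx k (t + 1)) (Idx k (t + 1)) F) with hC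
  set Bm := (as i : Matrix (Fin k) (Fin k) F) with hBm
  obtain ⟨θ, hθ⟩ := CfsgLib.TensorWreathMax.exists_dot_eq_one W.ha
  set Bi := (((as i)⁻¹ : GL (Fin k) F) : Matrix (Fin k) (Fin k) F) with hBi
  obtain ⟨τ, hCpl⟩ : ∃ τ : (Idx k t → F) →ₗ[F] (Idx k t → F), ∀ c u, C *ᵥ pl c u = pl (Bm *ᵥ c) (τ u) := by
    refine ⟨ct (θ ᵥ* Bi) ∘ₗ Matrix.toLin' C ∘ₗ pl a, fun c u => ?_⟩
    have h1 := CfsgLib.TensorWreathMax.Mon.slot_comm' hmon i (vecMulVec c θ)
    rw [hπ, CfsgLib.TensorWreathMax.conj_vecMulVec] at h1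
    have h2 := congrArg (rx i) h1
    rw [map_mul, map_mul, rx_slot_same, rx_slot_same, ← hC] at h2
    have h3 := congrArg (· *ᵥ pl a u) h2
    simp only [← Matrix.mulVec_mulVec, kronecker_mulVec_pl, Matrix.one_mulVec, vecMulVec_mulVec, op_smul_eq_smul,
      hθ, one_smul] at h3
    rw [h3, show vecMulVec (Bm *ᵥ c) (θ ᵥ* Bi) ⊗ₖ (1 : Matrix (Idx k t) (Idx k t) F) = nm (Bm *ᵥ c) (θ ᵥ* Bi) 1
      from rfl, nm_mulVec, Matrix.one_mulVec]
    rfl
  have hCinj : ∀ z, C *ᵥ z = 0 → z = 0 := by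
    intro z hz
    obtain ⟨w, rfl⟩ := (tvec i).surjective z
    rw [hC, rx_mulVec_tvec, LinearEquiv.map_eq_zero_iff] at hz
    rw [gl_mulVec_injective ii (hz.trans (Matrix.mulVec_zero _).symm), map_zero]
  have hCC : ∀ z, C *ᵥ (C *ᵥ z) = z := fun z => by
    obtain ⟨w, rfl⟩ := (tvec i).surjective z
    rw [hC, rx_mulVec_tvec, rx_mulVec_tvec, ← gl_mul_mulVec, hn2, Units.val_one, Matrix.one_mulVec]
  set u₀ : Idx k t → F := Pi.single 0 1
  obtain ⟨x₀, hx₀⟩ : ∃ x₀, τ (τ u₀) x₀ ≠ 0 := by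
    refine Function.ne_iff.1 fun h => ?_
    have h1 := hCC (pl a u₀)
    rw [hCpl, hCpl, show τ (τ u₀) = 0 from h, map_zero] at h1
    have := congrFun (pl_eq_zero W.ha h1.symm) 0
    simp [u₀] at this
  set lam := u₀ x₀ / τ (τ u₀) x₀
  have hB2 : ∀ c, Bm *ᵥ (Bm *ᵥ c) = lam • c := by
    intro c
    funext m
    have h1 := congrFun (hCC (pl c u₀)) (m, x₀)
    rw [hCpl, hCpl] at h1
    simp only [pl, LinearMap.coe_mk, AddHom.coe_mk] at h1
    rw [Pi.smul_apply, smul_eq_mul, div_mul_eq_mul_div, eq_div_iff hx₀, h1, mul_comm]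
  have hlam : lam ≠ 0 := fun h => by
    have h1 := hB2 a
    rw [h, zero_smul] at h1
    exact gl_mulVec_ne_zero (as i) (gl_mulVec_ne_zero (as i) W.ha) h1
  obtain ⟨μ, hμ⟩ : ∃ μ : F, μ * μ = lam := by
    refine (Finite.injective_iff_surjective.1 fun x y (hxy : x * x = y * y) => ?_) lam
    have : (x - y) * (x - y) = 0 := by linear_combination hxy + (y * y - x * y) * h2
    exact sub_eq_zero.1 (mul_self_eq_zero.1 this)
  have hμ0 : μ ≠ 0 := fun h => hlam (by rw [← hμ, h, zero_mul])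
  set B' := μ⁻¹ • Bm
  set τ' := μ • τ
  have hCpl' : ∀ c u, C *ᵥ pl c u = pl (B' *ᵥ c) (τ' u) := fun c u => by
    rw [hCpl, Matrix.smul_mulVec, pl_smul_left, LinearMap.smul_apply, map_smul, smul_smul, inv_mul_cancel₀ hμ0,
      one_smul]
  have hB'2 : ∀ c, B' *ᵥ (B' *ᵥ c) = c := fun c => by
    simp only [B', Matrix.smul_mulVec, Matrix.mulVec_smul, smul_smul, hB2, ← hμ]
    field_simp
    simp
  have hτ'0 : ∀ u, τ' u = 0 → u = 0 := fun u hu =>
    pl_eq_zero W.ha (hCinj _ (by rw [hCpl', hu, map_zero]))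
  have hB'A : ∀ α β : F, ∃ α' β' : F, B' *ᵥ (α • a + β • a') = α' • a + β' • a' := by
    intro α β
    have h1 := hiiAU _ (ax_le_sup (i := i) (a := a) (a' := a') rfl (ax_pl i (α • a + β • a') u₀))
    refine eq_comb_of_mem (u := τ' u₀) (fun h => ?_) h1
      (by rw [← rx_mulVec_tvec, LinearEquiv.apply_symm_apply, ← hC, hCpl'])
    have := congrFun (hτ'0 _ h) 0
    simp [u₀] at this
  -- the moved axis
  set L' := mp g (ax j b) with hL'
  have hX : L' ⊓ pp J AU = ax i a ⊓ L' := by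
    refine le_antisymm ?_ (le_inf inf_le_right (inf_le_left.trans (le_sup_left.trans hAUpp)))
    rw [← W.inf_pp_left]
    exact inf_le_inf_left _ (pp_anti le_sup_left)
  set K := AU ⊓ pp J L' with hK
  have hKdim : finrank F K = k ^ t + d := by
    have e1 := Submodule.finrank_sup_add_finrank_inf_eq AU (pp J L')
    have e2 : AU ⊔ pp J L' = pp J (ax i a ⊓ L') := by rw [← hX, pp_inf hJ h2, pp_pp hJ h2, sup_comm]
    have e3 := finrank_pp hJ (ax i a ⊓ L')
    have e4 := finrank_pp hJ L'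
    rw [e2, hAdim, ← hK] at e1
    rw [W.hd] at e3
    rw [show finrank F L' = k ^ t by rw [hL', finrank_mp, finrank_ax j W.hb]] at e4
    omega
  have hproj : ∀ c v : Fin k → F, (∃ α β : F, c = α • a + β • a') → c ≠ 0 → (∀ s : F, v ≠ s • c) →
      AU ≤ ax i c ⊔ ax i v → ∀ u, ∃ p, C *ᵥ (pl c p + pl v u) = pl c p + pl v u := by
    rintro c v ⟨α, β, hc⟩ hc0 hvc hle u
    obtain ⟨ψ, hψc, hψv⟩ := CfsgLib.TensorWreathMax.exists_perp_eq_one hvc
    let φ : K →ₗ[F] (Idx k t → F) := (ct ψ ∘ₗ (tvec (F := F) (m := k) i).toLinearMap).domRestrict K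
    have hker : (LinearMap.ker φ).map K.subtype ≤ ax i c ⊓ pp J L' := by
      rintro _ ⟨⟨v', hv'⟩, hk', rfl⟩
      refine ⟨?_, hv'.2⟩
      obtain ⟨p, q, hpq⟩ := mem_sup_ax (hle hv'.1)
      refine mem_ax.2 ⟨p, ?_⟩
      have h1 : ct ψ (tvec i v') = 0 := hk'
      rw [hpq, map_add, ct_pl, ct_pl, hψc, hψv, zero_smul, one_smul, zero_add] at h1
      show tvec i v' = _
      rw [hpq, h1, map_zero, add_zero]
    have e1 := LinearMap.finrank_range_add_finrank_ker φ
    have e2 := (Submodule.finrank_mono hker).trans (W.inf_pp_moved_le hc0)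
    rw [Submodule.finrank_map_subtype_eq] at e2
    have hsurj : LinearMap.range φ = ⊤ := Submodule.eq_top_of_finrank_eq (by
      have e3 := Submodule.finrank_le (LinearMap.range φ)
      simp only [Module.finrank_fintype_fun_eq_card, Fintype.card_fun, Fintype.card_fin] at e3 ⊢
      omega)
    obtain ⟨⟨z, hz⟩, hzu⟩ := LinearMap.range_eq_top.1 hsurj u
    obtain ⟨p, q, hpq⟩ := mem_sup_ax (hle hz.1)
    have h1 : ct ψ (tvec i z) = u := hzu
    rw [hpq, map_add, ct_pl, ct_pl, hψc, hψv, zero_smul, one_smul, zero_add] at h1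
    subst h1
    refine ⟨p, ?_⟩
    rw [← hpq, hC, rx_mulVec_tvec, hiifix z (by rw [pp_sup]; exact ⟨hAUpp hz.1, hz.2⟩)]
  have hsplit : ∀ {c v : Fin k → F}, (∀ s : F, v ≠ s • c) → ∀ {p u p' u' : Idx k t → F},
      pl c p + pl v u = pl c p' + pl v u' → u = u' := by
    intro c v hvc p u p' u' h
    obtain ⟨ψ, hψc, hψv⟩ := CfsgLib.TensorWreathMax.exists_perp_eq_one hvc
    have h1 := congrArg (ct ψ) h
    simpa [ct_pl, hψc, hψv] using h1
  obtain ⟨hτid, hBa, hBa'⟩ : (∀ u, τ' u = u) ∧ B' *ᵥ a = a ∧ B' *ᵥ a' = a' := by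
    have hmain : ∀ (v : Fin k → F) (α β : F), v = α • a + β • a' → B' *ᵥ v ≠ v → AU ≤ ax i (B' *ᵥ v - v) ⊔ ax i v → False := by
      intro v α β hv hne hle
      obtain ⟨α', β', hv'⟩ := hB'A α β
      rw [← hv] at hv'
      set c := B' *ᵥ v - v with hc
      have hc0 : c ≠ 0 := sub_ne_zero.2 hne
      have hneg : -c = c := by rw [neg_eq_iff_add_eq_zero, ← two_smul F, h2, zero_smul]
      have hBc : B' *ᵥ c = c := by rw [hc, Matrix.mulVec_sub, hB'2, ← neg_sub, ← hc, hneg]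
      have hBv : B' *ᵥ v = c + v := by rw [hc, sub_add_cancel]
      have hvc : ∀ s : F, v ≠ s • c := fun s hs => hne (by rw [hs, Matrix.mulVec_smul, hBc])
      have hcA : ∃ α β : F, c = α • a + β • a' :=
        ⟨α' - α, β' - β, by rw [hc, hv', hv, sub_smul, sub_smul]; abel⟩
      have heqn : ∀ u, ∃ p, pl c (τ' p + τ' u) + pl v (τ' u) = pl c p + pl v u := fun u => by
        obtain ⟨p, hp⟩ := hproj c v hcA hc0 hvc hle u
        rw [Matrix.mulVec_add, hCpl', hCpl', hBc, hBv, pl_add_left, ← add_assoc, ← map_add] at hp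
        exact ⟨p, hp⟩
      have hfix : ∀ u, τ' u = u := fun u => by
        obtain ⟨p, hp⟩ := heqn u
        exact hsplit hvc hp
      obtain ⟨ψ, hψv, hψc⟩ := CfsgLib.TensorWreathMax.exists_perp_eq_one (x := v) (y := c) (fun s hs => by
        rcases eq_or_ne s 0 with rfl | hs0
        · exact hc0 (by rw [hs, zero_smul])
        · exact hvc s⁻¹ (by rw [hs, smul_smul, inv_mul_cancel₀ hs0, one_smul]))
      obtain ⟨p, hp⟩ := heqn u₀
      have h1 := congrArg (ct ψ) hp
      simp only [hfix, map_add, ct_pl, hψc, hψv, one_smul, zero_smul, add_zero, add_eq_left] at h1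
      have := congrFun h1 0
      simp [u₀] at this
    have hBa : B' *ᵥ a = a := by
      by_contra hne
      refine hmain a 1 0 (by simp) hne (sup_le le_sup_right ?_)
      obtain ⟨α, β, hα⟩ := hB'A 1 0
      rw [one_smul, zero_smul, add_zero] at hα
      have hβ : β ≠ 0 := fun hβ => by
        rw [hβ, zero_smul, add_zero] at hα
        have h1 := hB'2 a
        rw [hα, Matrix.mulVec_smul, hα, smul_smul] at h1
        have h2' : α * α = 1 := smul_left_injective F W.ha (h1.trans (one_smul F a).symm)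
        have h3 : (α - 1) * (α - 1) = 0 := by linear_combination h2' + (1 - α) * h2
        refine hne ?_
        rw [hα, sub_eq_zero.1 (mul_self_eq_zero.1 h3), one_smul]
      refine ax_le_sup (i := i) (α := β⁻¹) (β := β⁻¹ * (1 - α)) ?_
      rw [hα, mul_smul, ← smul_add, sub_smul, one_smul,
        show α • a + β • a' - a + (a - α • a) = β • a' by abel, smul_smul, inv_mul_cancel₀ hβ, one_smul]
    have hBa' : B' *ᵥ a' = a' := by
      by_contra hne
      refine hmain a' 0 1 (by simp) hne (sup_le ?_ le_sup_right)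
      obtain ⟨α, β, hα⟩ := hB'A 0 1
      rw [one_smul, zero_smul, zero_add] at hα
      have hα0 : α ≠ 0 := fun hα0 => by
        rw [hα0, zero_smul, zero_add] at hα
        have h1 := hB'2 a'
        rw [hα, Matrix.mulVec_smul, hα, smul_smul] at h1
        have h2' : β * β = 1 := smul_left_injective F ha'0 (h1.trans (one_smul F a').symm)
        have h3 : (β - 1) * (β - 1) = 0 := by linear_combination h2' + (1 - β) * h2
        refine hne ?_
        rw [hα, sub_eq_zero.1 (mul_self_eq_zero.1 h3), one_smul]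
      refine ax_le_sup (i := i) (α := α⁻¹) (β := α⁻¹ * (1 - β)) ?_
      rw [hα, mul_smul, ← smul_add, sub_smul, one_smul,
        show α • a + β • a' - a' + (a' - β • a') = α • a by abel, smul_smul, inv_mul_cancel₀ hα0, one_smul]
    refine ⟨fun u => ?_, hBa, hBa'⟩
    obtain ⟨p, hp⟩ := hproj a a' ⟨1, 0, by simp⟩ W.ha hind le_rfl u
    rw [Matrix.mulVec_add, hCpl', hCpl', hBa, hBa'] at hp
    exact hsplit hind hp
  have hfixAU : ∀ v ∈ AU, (ii : Matrix (Idx k (t + 1)) (Idx k (t + 1)) F) *ᵥ v = v := by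
    intro v hv
    obtain ⟨p, q, hpq⟩ := mem_sup_ax hv
    refine (tvec i).injective ?_
    rw [← rx_mulVec_tvec, ← hC, hpq, Matrix.mulVec_add, hCpl', hCpl', hBa, hBa', hτid, hτid]
  have hfixpp : ∀ v ∈ pp J AU, (ii : Matrix (Idx k (t + 1)) (Idx k (t + 1)) F) *ᵥ v = v := by
    have hle : pp J (AU ⊔ L') ⊔ AU ≤ pp J AU := sup_le (pp_anti le_sup_left) hAUpp
    have heq : pp J (AU ⊔ L') ⊔ AU = pp J AU := by
      refine Submodule.eq_of_le_of_finrank_le hle ?_
      have hi : pp J (AU ⊔ L') ⊓ AU = K := by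
        rw [pp_sup, inf_comm, ← inf_assoc, inf_of_le_left hAUpp]
      have hAL : AU ⊓ L' = ax i a ⊓ L' := le_antisymm
        (hX ▸ le_inf inf_le_right (inf_le_left.trans hAUpp)) (inf_le_inf_right _ le_sup_left)
      have e1 := Submodule.finrank_sup_add_finrank_inf_eq (pp J (AU ⊔ L')) AU
      have e2 := Submodule.finrank_sup_add_finrank_inf_eq AU L'
      have e3 := finrank_pp hJ (AU ⊔ L')
      have e4 := finrank_pp hJ AU
      rw [hi, hKdim, hAdim] at e1
      rw [hAL, W.hd, hAdim, show finrank F L' = k ^ t by rw [hL', finrank_mp, finrank_ax j W.hb]] at e2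
      rw [hAdim] at e4
      omega
    intro v hv
    rw [← heq, Submodule.mem_sup] at hv
    obtain ⟨p, hp, q, hq, rfl⟩ := hv
    rw [Matrix.mulVec_add, hiifix p hp, hfixAU q hq]
  have hrangeii : ∀ v, (ii : Matrix (Idx k (t + 1)) (Idx k (t + 1)) F) *ᵥ v - v ∈ AU := by
    intro v
    rw [← pp_pp hJ h2 AU]
    refine mem_pp.2 fun w hw => ?_
    rw [map_sub]
    nth_rw 1 [← hfixpp w hw]
    rw [bf_iso (C₀.setting.iso ii hiiM), sub_self]
  obtain ⟨e, he⟩ : ∃ e, B' *ᵥ e ≠ e := by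
    by_contra hcon
    push Not at hcon
    refine hn1 (Units.ext (Matrix.ext_of_mulVec_single fun q => ?_))
    refine (tvec i).injective ?_
    rw [Units.val_one, Matrix.one_mulVec, ← rx_mulVec_tvec, ← hC, CfsgLib.TensorWreathMax.eq_sum_pl (tvec i (Pi.single q 1)),
      Matrix.mulVec_sum]
    exact Finset.sum_congr rfl fun m _ => by rw [hCpl', hcon, hτid]
  set w₀ := B' *ᵥ e - e with hw₀
  have hw₀v : ∀ u, (ii : Matrix (Idx k (t + 1)) (Idx k (t + 1)) F) *ᵥ (tvec i).symm (pl e u) -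
      (tvec i).symm (pl e u) = (tvec i).symm (pl w₀ u) := fun u => (tvec i).injective (by
    rw [map_sub, ← rx_mulVec_tvec, LinearEquiv.apply_symm_apply, LinearEquiv.apply_symm_apply, ← hC, hCpl', hτid,
      hw₀, pl_sub_left])
  obtain ⟨α, β, hαβ⟩ : ∃ α β : F, w₀ = α • a + β • a' := by
    have h1 := hrangeii ((tvec i).symm (pl e u₀))
    rw [hw₀v] at h1
    exact eq_comb_of_mem (by simp [u₀]) h1 (LinearEquiv.apply_symm_apply _ _)
  refine hny (C₀.mono_of_perp (i := i) (j := i) (a := w₀) (b := w₀) hy (sub_ne_zero.2 he) (sub_ne_zero.2 he) ?_)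
  rintro _ ⟨v, hv, rfl⟩
  obtain ⟨u, hu⟩ := mem_ax.1 hv
  obtain rfl : v = (tvec i).symm (pl w₀ u) := by rw [← hu, LinearEquiv.symm_apply_apply]
  have h2' : (y : Matrix (Idx k (t + 1)) (Idx k (t + 1)) F) *ᵥ
      ((ii : Matrix (Idx k (t + 1)) (Idx k (t + 1)) F) *ᵥ (tvec i).symm (pl e u)) =
      (ii : Matrix (Idx k (t + 1)) (Idx k (t + 1)) F) *ᵥ
        ((y : Matrix (Idx k (t + 1)) (Idx k (t + 1)) F) *ᵥ (tvec i).symm (pl e u)) := by
    rw [← gl_mul_mulVec, ← gl_mul_mulVec, hyn]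
  rw [Matrix.mulVecLin_apply, ← hw₀v, Matrix.mulVec_sub, h2', hαβ]
  exact hperpA α β (hrangeii _)

end CfsgLib.TensorSympChar2
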