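import Cfsg.Agent.Lib.TensorSympChar2.Involution

/-!
In characteristic two a group containing the slot transvections, with only scalar coefficients, is monomial.
-/

set_option autoImplicit false
set_option linter.unusedSectionVars false
set_option linter.unusedSimpArgs false

namespace CfsgLib.TensorSympChar2

open Matrix Module
open CfsgLib.Maximal.TensorPower
open CfsgLib.TensorWreathMax (Idx)
open CfsgLib.TensorSympWreath
open CfsgLib.UnitWreathMax (ax mp)

attribute [-simp] Matrix.coe_units_inv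

variable {F : Type*} [Field F] [Fintype F] {k t : ℕ} {J : Matrix (Fin k) (Fin k) F}

/-- The group itself is monomial. -/
theorem forall_mem_isMonomial {M : Subgroup (GL (Idx k (t + 1)) F)} (C : Ctx J M) : ∀ g ∈ M, IsMonomial g := by
  classical
  by_contra hcon
  push Not at hcon
  obtain ⟨g₀, hg₀, hng₀⟩ := hcon
  have hk := C.hk
  let P : ℕ → Prop := fun d => ∃ g ∈ M, ¬ IsMonomial g ∧ ∃ (i j : Fin (t + 1)) (a b : Fin k → F),
    a ≠ 0 ∧ b ≠ 0 ∧ finrank F ↥(ax i a ⊓ mp g (ax j b)) = d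
  have hbound : ∀ d, P d → d ≤ finrank F (Idx k (t + 1) → F) := by
    rintro d ⟨g, -, -, i, j, a, b, -, -, rfl⟩
    exact Submodule.finrank_le _
  let a₀ : Fin k → F := Pi.single ⟨0, by omega⟩ 1
  have ha₀ : a₀ ≠ 0 := by simp [a₀]
  have hex : ∃ d, P d := ⟨_, g₀, hg₀, hng₀, 0, 0, a₀, a₀, ha₀, ha₀, rfl⟩
  obtain ⟨d, hPd, hmax⟩ : ∃ d, P d ∧ ∀ d', P d' → d' ≤ d :=
    ⟨Nat.findGreatest P (finrank F (Idx k (t + 1) → F)),
      Nat.findGreatest_spec (hbound _ hex.choose_spec) hex.choose_spec,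
      fun d' hd' => Nat.le_findGreatest (hbound d' hd') hd'⟩
  obtain ⟨g, hg, hng, i, j, a, b, ha, hb, hd⟩ := hPd
  have W : Wit J M d g i j a b :=
    ⟨C, fun g hg hng i j a b ha hb => hmax _ ⟨g, hg, hng, i, j, a, b, ha, hb, rfl⟩, hg, hng, ha, hb, hd⟩
  exact W.contra

/-- Everything conjugating the slot transvections into the group is monomial. -/
theorem rigid (hJ : Alt J) (h2 : (2 : F) = 0) (hk : 6 ≤ k) : ∀ t, 1 ≤ t → Rigid J t := by
  intro t ht
  induction t with
  | zero => omega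
  | succ t ih =>
    rcases Nat.eq_zero_or_pos t with rfl | ht'
    · exact fun M _ _ g _ _ => CfsgLib.TensorWreathMax.isMonomial_of_one g
    intro M hM hs g hgs hg
    by_contra hng
    have C : Ctx J M := ⟨ht', hJ, h2, hk, ih ht', hM, hs⟩
    obtain ⟨z, hz, -, hnz⟩ := C.exists_not_mon hgs hg hng 0 (b := Pi.single ⟨0, by omega⟩ 1) (by simp)
    exact hnz (forall_mem_isMonomial C z hz)

end CfsgLib.TensorSympChar2
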