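import Cfsg.Agent.Lib.TensorSympChar2.Frame
import Cfsg.Agent.Lib.TensorSympChar2.Rigid

/-!
The stabiliser of a tensor power of a symplectic form is maximal in `Ω` in characteristic two.
-/

set_option autoImplicit false
set_option linter.unusedSectionVars false
set_option linter.unusedSimpArgs false
set_option linter.style.haveILetI false

namespace CfsgLib.TensorSympChar2

open Matrix QuadraticMap
open CfsgLib.Maximal.TensorPower
open CfsgLib.TensorWreathMax (Idx In permM permM_mulVec mem_standard)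
open CfsgLib.TensorSympWreath
open CfsgLib.TensorSympEven (omega)
open CfsgLib.GeomClasses
open CfsgLib.Maximal.TensorTools (quadOf coord)

attribute [-simp] Matrix.coe_units_inv

namespace Frame

variable {F : Type*} [Field F] {n k t : ℕ} (Fr : Frame F n k (t + 1))

/-- The stabiliser is maximal. -/
theorem maximal [Fintype F] (ht : 1 ≤ t) (hk : 6 ≤ k) :
    Cfsg.Geo.IsMaximalIn (omega Fr.q)
      ((Cfsg.Geo.tensorWreathStandard k (t + 1) F).map Fr.φ.toMonoidHom ⊓ omega Fr.q) := by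
  classical
  haveI : NeZero k := ⟨by omega⟩
  have hmono : ∀ x : GL (Idx k (t + 1)) F, IsMonomial x → Fr.φ x ∈ omega Fr.q →
      Fr.φ x ∈ (Cfsg.Geo.tensorWreathStandard k (t + 1) F).map Fr.φ.toMonoidHom ⊓ omega Fr.q :=
    fun x hx hxo => ⟨⟨x, mem_standard hx, rfl⟩, hxo⟩
  refine ⟨lt_of_le_not_ge inf_le_right fun h => ?_, fun M hHM hMS => ?_⟩
  · obtain ⟨x, hxo, hxm⟩ := Fr.exists_not_monomial ht hk
    obtain ⟨y, hy, hyx⟩ := (h hxo).1
    exact hxm (isMonomial_of_mem (Fr.φ.injective hyx ▸ hy))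
  let M₀ := M.comap Fr.φ.toMonoidHom
  have hroot : ∀ (i : Fin (t + 1)) (v : Fin k → F) (c : F), In M₀ (1 + c • slot i (Xm Fr.J v)) := fun i v c => by
    obtain ⟨x, hx, hxe⟩ := Fr.root_mem ht i (by
      rw [Fintype.card_prod, Fintype.card_fin, Fintype.card_fin]; exact (Fr.card_le ht hk).2.1) v c
    refine ⟨x, hHM (hmono x ?_ hx), hxe⟩
    refine isMonomial_slot (A := 1 + c • Xm Fr.J v) (fun h0 => ?_) i (by rw [hxe, map_add, map_smul, slot_one])
    have h := congrArg Matrix.det (root_mul Fr.alt v c)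
    rw [det_mul, h0, zero_mul, det_one] at h
    exact zero_ne_one h
  have hset : Setting Fr.J M₀ := ⟨fun g hg => Fr.iso_of_mem_omega (hMS hg), hroot⟩
  have hperm : ∀ a b c d : Fin (t + 1), a ≠ b → c ≠ d →
      In M₀ (permM (Equiv.swap a b) * permM (Equiv.swap c d)) := fun a b c d hab hcd => by
    obtain ⟨x, hx, hxe⟩ := Fr.double_mem (a := a) (b := b) (c := c) (d := d) hab hcd
    refine ⟨x, hHM (hmono x ?_ hx), hxe⟩
    refine ⟨(Equiv.swap a b).trans (Equiv.swap c d), fun _ => 1, fun xs => ?_⟩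
    rw [hxe, ← Matrix.mulVec_mulVec, permM_mulVec, permM_mulVec]
    simp
  by_cases hs : Scal Fr.J M₀
  · refine Or.inl (le_antisymm (fun y hy => ⟨?_, hMS hy⟩) hHM)
    have hyM : Fr.φ.symm y ∈ M₀ := by simpa [M₀] using hy
    exact ⟨Fr.φ.symm y, mem_standard
      (rigid Fr.alt Fr.two hk _ (by omega) M₀ hset hs _ (hset.iso _ hyM).sim (Conj.of_mem hset hyM)),
      Fr.φ.apply_symm_apply y⟩
  refine Or.inr (le_antisymm hMS ?_)
  have hW : Ev Fr.J M₀ := ⟨Fr.alt, Fr.two, hset⟩
  unfold Scal at hs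
  push Not at hs
  obtain ⟨i, v, hv, Y, hY, hin, hns⟩ := hs
  exact Fr.top ht hk hset hperm (hW.coef_of_one hv hY hin) hns

end Frame

/-- Maximality for even characteristic. -/
theorem maximal_even {F : Type*} [Field F] [Fintype F] {n : ℕ} (hodd : ¬ Odd (Fintype.card F))
    {Q : (Fin n → F) → F} (hQ : Cfsg.Geo.IsNondegenerateQuadraticForm Q) {k t : ℕ} (ht : 2 ≤ t) (hk : 6 ≤ k)
    (e : Fin n ≃ (Fin t → Fin k)) (P : GL (Fin n) F) {f₁ : (Fin k → F) → (Fin k → F) → F}
    (hf₁ : Cfsg.Geo.IsSymplecticForm f₁) (hT : Cfsg.Geo.IsTensorPowerFormStructure id (QuadraticMap.polar Q) f₁ e P)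
    (hpure : ∀ xs : Fin t → (Fin k → F), Q (Matrix.mulVec (P : Matrix (Fin n) (Fin n) F)
      ((fun a : Fin t → Fin k => ∏ i, xs i (a i)) ∘ e)) = 0) :
    Cfsg.Geo.IsMaximalIn (Cfsg.Geo.omegaGL Q)
      (Cfsg.Geo.tensorWreathSubgroup k t e P ⊓ Cfsg.Geo.omegaGL Q) := by
  classical
  obtain ⟨s, rfl⟩ : ∃ s, t = s + 1 := ⟨t - 1, by omega⟩
  set J := Cfsg.Geo.gramMatrix f₁
  have hfm : ∀ u v, fm J u v = f₁ u v := fun u v => by
    rw [fm, Matrix.toBilin'_apply]
    exact (CfsgLib.Maximal.TensorTools.bilinear_expand hf₁.bilinear u v).symm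
  have hJ : Alt J := ⟨fun v => by rw [← fm_apply, hfm, hf₁.alternating], fun h0 => by
    obtain ⟨v, hv, hvJ⟩ := Matrix.exists_vecMul_eq_zero_iff.2 h0
    obtain ⟨x, hx⟩ := (hf₁.nondegenerate v hv).2
    exact hx (by rw [← hfm, fm_apply, hvJ, zero_dotProduct])⟩
  have h2 : (2 : F) = 0 := by
    have h := FiniteField.even_card_iff_char_two.2 (Nat.even_iff.1 (Nat.not_odd_iff_even.1 hodd))
    have h' := ringChar.Nat.cast_ringChar (R := F)
    rw [h] at h'
    exact_mod_cast h'
  obtain ⟨c, hc, hform⟩ := hT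
  let Fr : Frame F n k (s + 1) :=
    { J := J
      alt := hJ
      two := h2
      q := quadOf hQ
      c := c
      c_ne := hc
      cd := coord e P
      φ := (Cfsg.Geo.glReindex e.symm).trans (MulAut.conj P)
      act := CfsgLib.Maximal.TensorTools.conj_reindex_mulVec e P
      form := fun x y => by
        show QuadraticMap.polar Q _ _ = _
        rw [CfsgLib.Maximal.TensorTools.coord_apply, CfsgLib.Maximal.TensorTools.coord_apply, hform]
        congr 1
        simp only [dotProduct, Matrix.mulVec, Finset.mul_sum, Jt, pm, id_eq, J]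
        exact Finset.sum_congr rfl fun a _ => Finset.sum_congr rfl fun b _ => by ring
      pure := fun xs => by
        show Q _ = 0
        rw [CfsgLib.Maximal.TensorTools.coord_apply]
        exact hpure xs }
  have h := Fr.maximal (by omega) hk
  have hH : Cfsg.Geo.tensorWreathSubgroup k (s + 1) e P =
      (Cfsg.Geo.tensorWreathStandard k (s + 1) F).map Fr.φ.toMonoidHom := by
    rw [Cfsg.Geo.tensorWreathSubgroup, Subgroup.map_map]
    rfl
  have hΩ : Cfsg.Geo.omegaGL Q = omega Fr.q := rfl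
  rw [hH, hΩ]
  exact h

end CfsgLib.TensorSympChar2
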